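import Cfsg.Agent.Lib.Perm.Small.PrimeCriterion

/-!
# Simple groups of order 244823040: the finite tests at the prime 23
-/

set_option autoImplicit false
set_option maxRecDepth 100000

namespace CfsgLib.Char.MTwentyFourOrder

open CfsgLib.Perm.PrimeBlock

/-- The full prime parts of the order. -/
def parts : List (ℕ × ℕ) := [(2, 1024), (3, 27), (5, 5), (7, 7), (11, 11), (23, 23)]

/-- Whether the degree has the full part of a prime dividing `c`. -/
def fullPart (c d : ℕ) : Bool := parts.any fun x => (c % x.1 == 0) && (d % x.2 == 0)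

/-- The divisors of the order. -/
def divs : List ℕ :=
  [1, 2, 4, 8, 16, 32, 64, 128, 256, 512, 1024].flatMap fun a => [1, 3, 9, 27].flatMap fun b =>
    [1, 5].flatMap fun c => [1, 7].flatMap fun d => [1, 11].flatMap fun f => [1, 23].map fun g =>
      a * b * c * d * f * g

/-- The possible degrees of non-trivial characters. -/
def degrees : List ℕ := divs.filter fun d => decide (3 ≤ d) && decide (d * d < 244823040)

/-- The admissible signed degrees. -/
def cands' (p c : ℕ) : List ℤ :=
  (degrees.flatMap fun (d : ℕ) =>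
      if okAbs 244823040 (244823040 / p) d && !fullPart c d then [(d : ℤ), -(d : ℤ)] else []).filter
    fun s => (s % (p : ℤ) == 1) && !(decide (1 < c) && kills p s)

/-- The sums of `k` terms of a list, as the bits of a number. -/
def sumBits (L : List ℤ) : ℕ → ℕ
  | 0 => 1
  | k + 1 => L.foldr (fun a r => (sumBits L k <<< (a + 16000).toNat) ||| r) 0

/-- Whether an integer is a sum of `k` terms of a list. -/
def isSum (L : List ℤ) (k : ℕ) (s : ℤ) : Bool := (sumBits L k).testBit (s + 16000 * (k : ℤ)).toNat

theorem testBit_foldr_of_mem (S : ℕ) (f : ℤ → ℕ) {L : List ℤ} {a : ℤ} {j : ℕ} (ha : a ∈ L)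
    (hj : S.testBit j = true) : (L.foldr (fun a r => (S <<< f a) ||| r) 0).testBit (f a + j) = true := by
  induction L with
  | nil => simp at ha
  | cons b L ih =>
    simp only [List.foldr_cons, Nat.testBit_lor, Bool.or_eq_true]
    rcases List.mem_cons.1 ha with rfl | h
    · left
      rw [Nat.testBit_shiftLeft]
      simp [hj]
    · exact Or.inr (ih h)

theorem isSum_of {L : List ℤ} (hL : ∀ a ∈ L, -16000 ≤ a) {ι : Type*} (f : ι → ℤ) :
    ∀ s : Finset ι, (∀ i ∈ s, f i ∈ L) → isSum L s.card (∑ i ∈ s, f i) = true := by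
  classical
  intro s
  induction s using Finset.induction_on with
  | empty => simp [isSum, sumBits]
  | insert a t hat ih =>
    intro h
    have h1 := ih fun i hi => h i (Finset.mem_insert_of_mem hi)
    have hlow : -(16000 * (t.card : ℤ)) ≤ ∑ i ∈ t, f i := by
      calc -(16000 * (t.card : ℤ)) = ∑ i ∈ t, (-16000 : ℤ) := by
            rw [Finset.sum_const, nsmul_eq_mul]; ring
        _ ≤ ∑ i ∈ t, f i := Finset.sum_le_sum fun i hi => hL _ (h i (Finset.mem_insert_of_mem hi))
    have ha := h a (Finset.mem_insert_self _ _)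
    have ha' := hL _ ha
    rw [Finset.card_insert_of_notMem hat, Finset.sum_insert hat]
    simp only [isSum, sumBits] at h1 ⊢
    rw [show (f a + ∑ i ∈ t, f i + 16000 * ((t.card + 1 : ℕ) : ℤ)).toNat =
      (f a + 16000).toNat + (∑ i ∈ t, f i + 16000 * (t.card : ℤ)).toNat by push_cast; omega]
    exact testBit_foldr_of_mem _ (fun a => (a + 16000).toNat) ha h1

/-- The test on a signed exceptional degree. -/
def excTest (p e c : ℕ) (D : ℤ) : Bool :=
  (D % (p : ℤ) == (e : ℤ) % (p : ℤ)) && okAbs 244823040 (244823040 / p) D.natAbs &&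
    !fullPart c D.natAbs && !(decide (1 < c) && kills p (-(((p - 1) / e : ℕ) : ℤ) * D))

/-- Whether the parameters admit degrees. -/
def possible' (p e c : ℕ) : Bool :=
  (degrees.flatMap fun (d : ℕ) => [(d : ℤ), -(d : ℤ)]).any fun D =>
    excTest p e c D && isSum (cands' p c) (e - 1) (D - 1)

theorem test_23 : ∀ n ∈ divs, ∀ e ∈ [2, 11, 22], n % 23 = 1 → 1 < n → 10644480 % (n * e) = 0 →
    (e, 10644480 / (n * e)) ∈
        [(11, 1), (11, 24), (22, 12), (11, 576), (22, 288), (11, 13824), (22, 6912)] ∨
      possible' 23 e (10644480 / (n * e)) = false := by decide +kernel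

/-- The degrees of a character in both principal blocks. -/
def commonDegrees : List ℕ :=
  [12, 24, 35, 45, 126, 160, 252, 288, 540, 896, 1024, 1080, 1920, 3024, 3840, 6048, 10752]

theorem common_degrees : ∀ d ∈ divs, 3 ≤ d → d * d < 244823040 →
    d % 23 ∈ [1, 22, 11, 12] → d % 11 ∈ [1, 10, 2, 9, 5, 6] → d ∈ commonDegrees := by
  decide +kernel

/-- The possible orders, divided by 253, of a centralizer and of its part in the normalizer. -/
def centPairs : List (ℕ × ℕ) :=
  ([3, 6, 12, 24, 48, 96, 192, 9, 18, 36, 72, 144, 288, 576].flatMap fun k =>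
    [1, 24, 70, 576, 1680, 13824, 40320, 967680].map fun j => (k, j)).filter fun x =>
      967680 % (x.1 * x.2) == 0

/-- The conditions on a value `a + b ω` of degree `d` at a centralizer `253 k j`. -/
def valOK (d : ℕ) (a b : ℤ) (x : ℕ × ℕ) : Bool :=
  decide (a * a - a * b + b * b < ((253 * (x.1 * x.2) : ℕ) : ℤ)) &&
    (((967680 / (x.1 * x.2) : ℕ) : ℤ) * a % (d : ℤ) == 0) &&
    (((967680 / (x.1 * x.2) : ℕ) : ℤ) * b % (d : ℤ) == 0)

/-- All admissible values force one or seventy Sylow subgroups. -/
def valTest (d : ℕ) : Bool :=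
  (List.range (d / 253 + 1)).all fun i => (List.range (d / 253 + 1 - i)).all fun l =>
    (i == 0 && l == 0) || centPairs.all fun x =>
      x.2 == 1 || x.2 == 70 ||
        !valOK d ((d : ℤ) - 253 * ((i : ℤ) + 2 * (l : ℤ))) (253 * ((i : ℤ) - (l : ℤ))) x

theorem test_val : ∀ d ∈ commonDegrees, d ≠ 896 → valTest d = true := by decide +kernel

end CfsgLib.Char.MTwentyFourOrder
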