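import Cfsg.Agent.Lib.Char.MTwentyTwoOrder.Degrees
import Cfsg.Agent.Lib.Char.MTwentyTwoOrder.Regular
import Cfsg.Agent.Lib.Char.MTwentyTwoOrder.Local.Four
import Cfsg.Agent.Lib.Char.MTwentyFourOrder.Order.Tests
import Cfsg.Agent.Lib.BSW.CharTools

/-!
# Simple groups of order 244823040: the parameters at a prime pass the tests
-/

set_option autoImplicit false
set_option linter.all false

open Cfsg Subgroup CfsgLib.Perm.PrimeBlock CfsgLib.Block CfsgLib.Char.MEleven.Order CfsgLib.Char.MTwelveOrder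
open CfsgLib.Char.MTwentyTwoOrder (PData exists_pdata not_full)

namespace CfsgLib.Char.MTwentyFourOrder

universe u

theorem dvd_small : (∀ x < 1025, 1024 % x = 0 → x ∈ [1, 2, 4, 8, 16, 32, 64, 128, 256, 512, 1024]) ∧
    (∀ x < 28, 27 % x = 0 → x ∈ [1, 3, 9, 27]) := by decide +kernel

/-- A divisor of the order is in the list of divisors. -/
theorem mem_divs {n : ℕ} (h : n ∣ 244823040) : n ∈ divs := by
  rw [show (244823040 : ℕ) = 1024 * 27 * 5 * 7 * 11 * 23 by norm_num] at h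
  obtain ⟨r₁, g, hr₁, hg, rfl⟩ := exists_dvd_and_dvd_of_dvd_mul h
  obtain ⟨r₂, f, hr₂, hf, rfl⟩ := exists_dvd_and_dvd_of_dvd_mul hr₁
  obtain ⟨r₃, d, hr₃, hd, rfl⟩ := exists_dvd_and_dvd_of_dvd_mul hr₂
  obtain ⟨r₄, c, hr₄, hc, rfl⟩ := exists_dvd_and_dvd_of_dvd_mul hr₃
  obtain ⟨a, b, ha, hb, rfl⟩ := exists_dvd_and_dvd_of_dvd_mul hr₄
  have two : ∀ {q x : ℕ}, q.Prime → x ∣ q → x ∈ [1, q] := fun hq hx => by
    simpa using (Nat.dvd_prime hq).1 hx
  simp only [divs, List.mem_flatMap, List.mem_map]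
  exact ⟨a, dvd_small.1 a (Nat.lt_succ_of_le (Nat.le_of_dvd (by norm_num) ha)) (Nat.mod_eq_zero_of_dvd ha),
    b, dvd_small.2 b (Nat.lt_succ_of_le (Nat.le_of_dvd (by norm_num) hb)) (Nat.mod_eq_zero_of_dvd hb),
    c, two (by norm_num) hc, d, two (by norm_num) hd, f, two (by norm_num) hf, g, two (by norm_num) hg, rfl⟩

theorem degrees_le : ∀ d ∈ degrees, d ≤ 16000 := by decide +kernel

theorem cands'_ge (p c : ℕ) : ∀ a ∈ cands' p c, (-16000 : ℤ) ≤ a := by
  intro a ha
  simp only [cands', List.mem_filter, List.mem_flatMap] at ha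
  obtain ⟨⟨d, hd, hmem⟩, -⟩ := ha
  have := degrees_le d hd
  split_ifs at hmem with hcond
  · simp only [List.mem_cons, List.not_mem_nil, or_false] at hmem
    rcases hmem with rfl | rfl <;> omega
  · simp at hmem

theorem parts_spec : ∀ x ∈ parts, x.1.Prime ∧
    ∃ a, x.2 = x.1 ^ a ∧ x.2 ∣ 244823040 ∧ ¬ x.1 ^ (a + 1) ∣ 244823040 := by
  intro x hx
  simp only [parts, List.mem_cons, List.not_mem_nil, or_false] at hx
  rcases hx with rfl | rfl | rfl | rfl | rfl | rfl
  · exact ⟨Nat.prime_two, 10, by norm_num, by norm_num, by norm_num⟩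
  · exact ⟨Nat.prime_three, 3, by norm_num, by norm_num, by norm_num⟩
  · exact ⟨by norm_num, 1, by norm_num, by norm_num, by norm_num⟩
  · exact ⟨by norm_num, 1, by norm_num, by norm_num, by norm_num⟩
  · exact ⟨by norm_num, 1, by norm_num, by norm_num, by norm_num⟩
  · exact ⟨by norm_num, 1, by norm_num, by norm_num, by norm_num⟩

variable {G : Type u} [Group G] [Fintype G] [IsSimpleGroup G]

theorem noncomm (h : Nat.card G = 244823040) : ¬ IsMulCommutative G := fun hc => by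
  haveI := hc
  letI : CommGroup G :=
    { (inferInstance : Group G) with mul_comm := fun a b => IsMulCommutative.is_comm.comm a b }
  have hp : (Nat.card G).Prime := IsSimpleGroup.prime_card (α := G)
  rw [h] at hp
  norm_num at hp

/-- A degree of a non-trivial character is in the list. -/
theorem mem_degrees (h : Nat.card G = 244823040) {χ : IrrCharacter G} (hne : χ ≠ oneChar G) :
    dg χ ∈ degrees := by
  have h3 : 3 ≤ dg χ := degree_ge_three (noncomm h) χ (fun e => hne (Subtype.ext e))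
    (by rw [val_one])
  have hsq := sq_degree_lt χ hne
  have hdv : dg χ ∣ 244823040 := h ▸ CfsgLib.Char.degree_dvd_card χ (val_one χ)
  simp only [degrees, List.mem_filter, Bool.and_eq_true, decide_eq_true_eq]
  exact ⟨mem_divs hdv, h3, h ▸ hsq⟩

section Block

variable {p e c : ℕ} [hp : Fact p.Prime] (D : PData G p e c)

theorem fullPart_X (h : Nat.card G = 244823040) (hpc : ¬ p ∣ c) {χ : IrrCharacter G} (hχ : χ ∈ D.S.X) :
    fullPart c (dg χ) = false := by
  refine Bool.eq_false_iff.2 fun hf => ?_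
  simp only [fullPart, List.any_eq_true, Bool.and_eq_true, beq_iff_eq] at hf
  obtain ⟨x, hx, h1, h2⟩ := hf
  obtain ⟨hq, a, ha, hd, hd'⟩ := parts_spec x hx
  haveI : Fact x.1.Prime := ⟨hq⟩
  have hxc := Nat.dvd_of_mod_eq_zero h1
  exact D.not_full_X hxc (fun he => hpc (he ▸ hxc)) (by rw [h, ← ha]; exact hd) (by rw [h]; exact hd') hχ
    (by rw [← ha]; exact Nat.dvd_of_mod_eq_zero h2)

theorem fullPart_D (h : Nat.card G = 244823040) (hpc : ¬ p ∣ c) : fullPart c D.S.D = false := by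
  refine Bool.eq_false_iff.2 fun hf => ?_
  simp only [fullPart, List.any_eq_true, Bool.and_eq_true, beq_iff_eq] at hf
  obtain ⟨x, hx, h1, h2⟩ := hf
  obtain ⟨hq, a, ha, hd, hd'⟩ := parts_spec x hx
  haveI : Fact x.1.Prime := ⟨hq⟩
  have hxc := Nat.dvd_of_mod_eq_zero h1
  exact D.not_full_D hxc (fun he => hpc (he ▸ hxc)) (by rw [h, ← ha]; exact hd) (by rw [h]; exact hd')
    (by rw [← ha]; exact Nat.dvd_of_mod_eq_zero h2)

/-- A candidate for the signed degree of a block character. -/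
theorem mem_cands' (h : Nat.card G = 244823040) (hpd : p ∣ 244823040) (hpc : ¬ p ∣ c)
    {χ : IrrCharacter G} (hχ : χ ∈ D.S.X) : sd D.S χ ∈ cands' p c := by
  have hg : Nat.card G = 244823040 / p * p := by rw [h, Nat.div_mul_cancel hpd]
  have h1 := mem_cands_sd (noncomm h) D.S D.card_P hg D.cent_P hpc
    (B := 15647) (by rw [h]; norm_num) hχ
  have hne : χ ≠ oneChar G := fun e => D.S.one_notMem_X (e ▸ hχ)
  have habs := natAbs_sd D.S hχ
  rw [h] at h1
  simp only [cands, List.mem_filter, Bool.and_eq_true] at h1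
  obtain ⟨-, ⟨hok, hmod⟩, hk⟩ := h1
  rw [habs] at hok
  simp only [cands', List.mem_filter, List.mem_flatMap, Bool.and_eq_true]
  refine ⟨⟨_, mem_degrees h hne, ?_⟩, hmod, hk⟩
  rw [hok, fullPart_X D h hpc hχ]
  simp only [Bool.not_false, if_true, Bool.and_self, List.mem_cons, List.not_mem_nil, or_false]
  rcases D.S.sign_X χ hχ with hs | hs <;> simp [sd, hs, dg]

theorem exc_ok (h : Nat.card G = 244823040) (hpd : p ∣ 244823040) (hep : e ∣ p - 1) (he : 2 ≤ e)
    (hpc : ¬ p ∣ c) :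
    (((D.S.ε * (D.S.D : ℤ)) % (p : ℤ) == (e : ℤ) % (p : ℤ)) &&
      okAbs 244823040 (244823040 / p) (D.S.ε * (D.S.D : ℤ)).natAbs &&
      !fullPart c (D.S.ε * (D.S.D : ℤ)).natAbs) = true := by
  obtain ⟨θ, hθ⟩ := nonempty_Y D.S hep (by omega)
  have hg : Nat.card G = 244823040 / p * p := by rw [h, Nat.div_mul_cancel hpd]
  obtain ⟨hok, hmod⟩ : okAbs 244823040 (244823040 / p) (D.S.ε * (D.S.D : ℤ)).natAbs = true ∧
      (D.S.ε * (D.S.D : ℤ)) % (p : ℤ) = (e : ℤ) % (p : ℤ) := by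
    have := D.S.okAbs_Y (noncomm h) hg hep he hθ
    rwa [h] at this
  have habs : (D.S.ε * (D.S.D : ℤ)).natAbs = D.S.D := by rcases D.S.sign with hs | hs <;> simp [hs]
  simp only [Bool.and_eq_true, beq_iff_eq, Bool.not_eq_true']
  exact ⟨⟨hmod, hok⟩, by rw [habs]; exact fullPart_D D h hpc⟩

theorem possible'_eq (D : PData G p e c) (h : Nat.card G = 244823040) (hpd : p ∣ 244823040)
    (hep : e ∣ p - 1) (he : 2 ≤ e) (hpc : ¬ p ∣ c) : possible' p e c = true := by
  classical
  obtain ⟨θ, hθ⟩ := nonempty_Y D.S hep (by omega)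
  have hok := exc_ok D h hpd hep he hpc
  have hne : θ ≠ oneChar G := fun e => D.S.one_notMem_Y (e ▸ hθ)
  have hD : D.S.D ∈ degrees := (show dg θ = D.S.D from D.S.degree_Y θ hθ) ▸ mem_degrees h hne
  refine List.any_eq_true.2 ⟨D.S.ε * (D.S.D : ℤ), List.mem_flatMap.2 ⟨_, hD, by
    rcases D.S.sign with hs | hs <;> simp [hs]⟩, ?_⟩
  simp only [excTest, Bool.and_eq_true, beq_iff_eq, Bool.not_eq_true'] at hok ⊢
  refine ⟨⟨hok, ?_⟩, ?_⟩
  · rw [Bool.and_eq_false_iff]
    by_cases hc1 : 1 < c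
    · exact Or.inr (D.no_kill (noncomm h) hep he hpc hc1)
    · exact Or.inl (decide_eq_false hc1)
  · rw [rel_one D.S hθ, add_sub_cancel_left, show e - 1 = D.S.X.card by have := D.S.card_X; omega]
    exact isSum_of (cands'_ge p c) _ _ fun χ hχ => mem_cands' D h hpd hpc hχ

/-- The parameters at the prime 23. -/
theorem twentythree_params (h : Nat.card G = 244823040) [Fact (Nat.Prime 23)] :
    ∃ e c : ℕ, (e, c) ∈ [(11, 1), (11, 24), (22, 12), (11, 576), (22, 288), (11, 13824), (22, 6912)] ∧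
      Nonempty (PData G 23 e c) := by
  obtain ⟨n, e, c, hn, hn1, hn2, he2, hep, hpc, ⟨D⟩⟩ :=
    exists_pdata (noncomm h) 23 10644480 (by norm_num) (by rw [h]) (by norm_num)
  have hposs := possible'_eq D h (by norm_num) hep he2 hpc
  have hel : e ∈ [2, 11, 22] := by
    have := Nat.le_of_dvd (by norm_num) hep
    interval_cases e <;> simp_all
  have hc : 10644480 / (n * e) = c := by
    rw [show 10644480 = n * e * c by rw [← hn]; ring,
      Nat.mul_div_cancel_left _ (Nat.mul_pos (by omega) (by omega))]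
  have hd : 10644480 % (n * e) = 0 := Nat.mod_eq_zero_of_dvd ⟨c, by rw [← hn]; ring⟩
  have hmem := test_23 n (mem_divs ((show n ∣ 10644480 from ⟨e * c, hn.symm⟩).trans (by norm_num))) e hel
    (by omega) hn2 hd
  rw [hc, hposs] at hmem
  exact ⟨e, c, hmem.resolve_right (by simp), ⟨D⟩⟩

end Block

end CfsgLib.Char.MTwentyFourOrder
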