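import Cfsg.Agent.Lib.Char.MTwentyFourOrder.Order.Basic

/-!
# Characters in the principal blocks at two primes
-/

set_option autoImplicit false
set_option linter.all false

open Cfsg Subgroup Finset CfsgLib.Perm.PrimeBlock CfsgLib.Block CfsgLib.Char.MEleven.Order CfsgLib.Char.MTwelveOrder
open CfsgLib.Char.MTwentyTwoOrder (PData exists_pdata)
open scoped ComplexConjugate

namespace CfsgLib.Char.MTwentyFourOrder

universe u

variable {G : Type u} [Group G] [Fintype G]

theorem dvd_of_orderOf_prod {p q c' : ℕ} [hp : Fact p.Prime] [hq : Fact q.Prime] (hpq : p ≠ q)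
    {C : Subgroup G} (hC : Nat.card C = q * c') (hpc' : ¬ p ∣ c') {g : G} (hg : g ∈ C) : ¬ p ∣ orderOf g := by
  intro h
  have h2 := h.trans (Subgroup.orderOf_dvd_natCard C hg)
  rw [hC] at h2
  rcases (Nat.Prime.dvd_mul hp.out).1 h2 with h3 | h3
  · exact hpq ((Nat.prime_dvd_prime_iff_eq hp.out hq.out).1 h3)
  · exact hpc' h3

theorem mem_cent_self {p : ℕ} [Fact p.Prime] {P : Subgroup G} (hP : Nat.card P = p) {x : G} (hx : x ∈ P) :
    x ∈ Subgroup.centralizer (P : Set G) := by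
  haveI : IsMulCommutative P := (isCyclic_of_prime_card hP).isMulCommutative
  exact Subgroup.le_centralizer _ hx

variable {p e c q e' c' : ℕ} [hp : Fact p.Prime] [hq : Fact q.Prime]

/-- The averaged orthogonality of two sections. -/
theorem avg_orth [Fintype (IrrCharacter G)] (D : PData G p e c) (D' : PData G q e' c') (hpq : p ≠ q)
    (hpc' : ¬ p ∣ c') {x x' : G} (hx : x ∈ (D.P : Subgroup G)) (hx1 : x ≠ 1) (hx' : x' ∈ (D'.P : Subgroup G)) :
    ∑ χ : IrrCharacter G, (∑ y ∈ regCent p (D.P : Subgroup G), (χ : G → ℂ) (x * y)) *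
      conj (∑ y ∈ regCent q (D'.P : Subgroup G), (χ : G → ℂ) (x' * y)) = 0 := by
  classical
  simp only [map_sum, Finset.sum_mul, Finset.mul_sum]
  rw [Finset.sum_comm]
  refine Finset.sum_eq_zero fun y' hy' => ?_
  rw [Finset.sum_comm]
  refine Finset.sum_eq_zero fun y hy => ?_
  rw [CfsgLib.Char.sum_irr_mul_conj, if_neg]
  intro hcj
  obtain ⟨hyC, hyr⟩ := mem_regCent.1 hy
  have hxo : orderOf x = p := orderOf_mem D.card_P hx hx1
  have hcm : Commute x y := Subgroup.mem_centralizer_iff.1 hyC x hx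
  have h1 : p ∣ orderOf (x * y) := by
    rw [hcm.orderOf_mul_eq_mul_orderOf_of_coprime
      (by rw [hxo]; exact (Nat.Prime.coprime_iff_not_dvd hp.out).2 hyr), hxo]
    exact dvd_mul_right _ _
  obtain ⟨g, hg⟩ := isConj_iff.1 hcj
  refine dvd_of_orderOf_prod hpq D'.cent_P hpc'
    (mul_mem (mem_cent_self D'.card_P hx') (mem_regCent.1 hy').1) ?_
  rw [← hg]
  convert h1 using 1
  exact orderOf_injective (MulAut.conj g).toMonoidHom (MulAut.conj g).injective (x * y)

/-- The orthogonality in terms of the second block. -/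
theorem block_orth [IsSimpleGroup G] [Fintype (IrrCharacter G)] (D : PData G p e c) (D' : PData G q e' c') (hpq : p ≠ q)
    (hpc' : ¬ p ∣ c') (hqc : ¬ q ∣ c) {θ : IrrCharacter G} (hθ : θ ∈ D'.S.Y)
    {x : G} (hx : x ∈ (D.P : Subgroup G)) (hx1 : x ≠ 1) :
    ((regCent p (D.P : Subgroup G)).card : ℂ) +
      ∑ χ ∈ D'.S.X, (D'.S.εX χ : ℂ) * ∑ y ∈ regCent p (D.P : Subgroup G), (χ : G → ℂ) (x * y) -
      (D'.S.ε : ℂ) * ∑ y ∈ regCent p (D.P : Subgroup G), (θ : G → ℂ) (x * y) = 0 := by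
  classical
  obtain ⟨x', hx', hxo'⟩ := D'.exists_elt
  have hx1' : x' ≠ 1 := fun e1 => hq.out.one_lt.ne' (by rw [← hxo', e1, orderOf_one])
  set K := regCent p (D.P : Subgroup G) with hKdef
  set K' := regCent q (D'.P : Subgroup G) with hK'
  have hk' : (K'.card : ℂ) ≠ 0 := by
    have : 1 ∈ K' := mem_regCent.2 ⟨one_mem _, by rw [orderOf_one]; exact hq.out.not_dvd_one⟩
    exact_mod_cast (Finset.card_pos.2 ⟨1, this⟩).ne'
  have h := avg_orth D D' hpq hpc' hx hx1 hx'
  rw [← Finset.sum_subset (Finset.subset_univ ({oneChar G} ∪ D'.S.X ∪ D'.S.Y)) (fun ψ _ hψ => by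
    simp only [Finset.mem_union, Finset.mem_singleton, not_or] at hψ
    rw [D'.hout ψ hψ.1.1 hψ.1.2 hψ.2 x' hx' hx1', map_zero, mul_zero]),
    Finset.sum_union (Finset.disjoint_union_left.2
      ⟨Finset.disjoint_singleton_left.2 D'.S.one_notMem_Y, D'.S.disjoint⟩),
    Finset.sum_union (Finset.disjoint_singleton_left.2 D'.S.one_notMem_X), Finset.sum_singleton] at h
  have e1 : ∀ g : G, ((oneChar G : IrrCharacter G) : G → ℂ) g = 1 := fun _ => rfl
  have hX : ∀ χ ∈ D'.S.X, (∑ y ∈ K, (χ : G → ℂ) (x * y)) * conj (∑ y ∈ K', (χ : G → ℂ) (x' * y)) =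
      (K'.card : ℂ) * ((D'.S.εX χ : ℂ) * ∑ y ∈ K, (χ : G → ℂ) (x * y)) := by
    intro χ hχ
    rw [Finset.sum_congr rfl (s₁ := K') fun y hy =>
      D'.S.value_X χ hχ x' hx' hx1' y (mem_regCent.1 hy).1 (mem_regCent.1 hy).2,
      Finset.sum_const, nsmul_eq_mul, map_mul, Complex.conj_natCast, map_intCast]
    ring
  have hY : ∑ ψ ∈ D'.S.Y, (∑ y ∈ K, (ψ : G → ℂ) (x * y)) * conj (∑ y ∈ K', (ψ : G → ℂ) (x' * y)) =
      -((K'.card : ℂ) * ((D'.S.ε : ℂ) * ∑ y ∈ K, (θ : G → ℂ) (x * y))) := by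
    calc _ = ∑ ψ ∈ D'.S.Y, (∑ y ∈ K, (θ : G → ℂ) (x * y)) * conj (∑ y ∈ K', (ψ : G → ℂ) (x' * y)) := by
          refine Finset.sum_congr rfl fun ψ hψ => ?_
          rw [Finset.sum_congr rfl (s₁ := K) fun y hy => D'.S.regular_Y ψ hψ θ hθ (x * y) ?_]
          exact dvd_of_orderOf_prod hpq.symm D.cent_P hqc
            (mul_mem (mem_cent_self D.card_P hx) (mem_regCent.1 hy).1)
      _ = _ := by
          rw [← Finset.mul_sum, ← map_sum, Finset.sum_comm, Finset.sum_congr rfl (s₁ := K')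
            fun y hy => D'.S.value_Y x' hx' hx1' y (mem_regCent.1 hy).1 (mem_regCent.1 hy).2,
            Finset.sum_const, nsmul_eq_mul, map_mul, Complex.conj_natCast, map_neg, map_intCast]
          ring
  rw [hY, Finset.sum_congr rfl hX, ← Finset.mul_sum, Finset.sum_congr rfl fun y _ => e1 (x * y),
    Finset.sum_congr rfl fun y _ => e1 (x' * y), Finset.sum_const, Finset.sum_const, nsmul_one, nsmul_one,
    Complex.conj_natCast] at h
  refine mul_left_cancel₀ hk' ?_
  rw [mul_zero]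
  linear_combination h

/-- A common non-trivial character of the two principal blocks, not of the excluded degree. -/
theorem exists_common [IsSimpleGroup G] {e c e' c' : ℕ} [Fact (Nat.Prime 23)] [Fact (Nat.Prime 11)]
    (D : PData G 23 e c) (D' : PData G 11 e' c') (he : e ∈ [11, 22]) (he' : e' ∈ [2, 5, 10])
    (hpc' : ¬ 23 ∣ c') (hqc : ¬ 11 ∣ c) :
    ∃ χ : IrrCharacter G, χ ≠ oneChar G ∧ (χ ∈ D.S.X ∨ χ ∈ D.S.Y) ∧ (χ ∈ D'.S.X ∨ χ ∈ D'.S.Y) ∧
      dg χ ≠ 896 := by
  classical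
  haveI := Fintype.ofFinite (IrrCharacter G)
  obtain ⟨x, hx, hxo⟩ := D.exists_elt
  have hx1 : x ≠ 1 := fun e1 => by rw [e1, orderOf_one] at hxo; norm_num at hxo
  have hep' : e' ∣ 11 - 1 := by revert he'; simp; rintro (rfl | rfl | rfl) <;> norm_num
  obtain ⟨θ, hθ⟩ := nonempty_Y D'.S hep' (by revert he'; simp; omega)
  set K := regCent 23 (D.P : Subgroup G) with hK
  have hk : (K.card : ℂ) ≠ 0 := by
    have : 1 ∈ K := mem_regCent.2 ⟨one_mem _, by rw [orderOf_one]; norm_num⟩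
    exact_mod_cast (Finset.card_pos.2 ⟨1, this⟩).ne'
  have horth := block_orth D D' (by norm_num) hpc' hqc hθ hx hx1
  have hcomm : ∀ χ : IrrCharacter G, χ ≠ oneChar G → ∑ y ∈ K, (χ : G → ℂ) (x * y) ≠ 0 →
      χ ∈ D.S.X ∨ χ ∈ D.S.Y := by
    intro χ h1 hne
    by_contra hno
    push Not at hno
    exact hne (D.hout χ h1 hno.1 hno.2 x hx hx1)
  by_cases hX : ∀ χ ∈ D'.S.X, ∑ y ∈ K, (χ : G → ℂ) (x * y) = 0
  swap
  · push Not at hX
    obtain ⟨χ, hχ, hne⟩ := hX
    have h1 : χ ≠ oneChar G := fun e1 => D'.S.one_notMem_X (e1 ▸ hχ)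
    refine ⟨χ, h1, hcomm χ h1 hne, Or.inl hχ, fun hd => ?_⟩
    have h2 := Int.modEq_iff_dvd.1 (D'.S.degree_X χ hχ)
    rw [show charDegree (χ : G → ℂ) = dg χ from rfl, hd] at h2
    rcases D'.S.sign_X χ hχ with hs | hs <;> rw [hs] at h2 <;> norm_num at h2
  rw [Finset.sum_eq_zero fun χ hχ => by rw [hX χ hχ, mul_zero], add_zero] at horth
  have h1 : θ ≠ oneChar G := fun e1 => D'.S.one_notMem_Y (e1 ▸ hθ)
  have hne : ∑ y ∈ K, (θ : G → ℂ) (x * y) ≠ 0 := fun h0 => hk (by rw [h0, mul_zero, sub_zero] at horth; exact horth)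
  refine ⟨θ, h1, hcomm θ h1 hne, Or.inr hθ, fun hd => ?_⟩
  have hε : D'.S.ε = 1 := by
    have h2 := Int.modEq_iff_dvd.1 D'.S.congr_Y
    rw [← D'.S.degree_Y θ hθ, show charDegree (θ : G → ℂ) = dg θ from rfl, hd] at h2
    simp only [List.mem_cons, List.not_mem_nil, or_false] at he'
    rcases D'.S.sign with hs | hs
    · exact hs
    · rw [hs] at h2; rcases he' with rfl | rfl | rfl <;> norm_num at h2
  have hF : ∑ y ∈ K, (θ : G → ℂ) (x * y) = -(K.card : ℂ) := by
    rcases hcomm θ h1 hne with hm | hm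
    · have h2 := Int.modEq_iff_dvd.1 (D.S.degree_X θ hm)
      rw [show charDegree (θ : G → ℂ) = dg θ from rfl, hd] at h2
      rw [Finset.sum_congr rfl fun y hy => D.S.value_X θ hm x hx hx1 y (mem_regCent.1 hy).1 (mem_regCent.1 hy).2,
        Finset.sum_const, nsmul_eq_mul]
      rcases D.S.sign_X θ hm with hs | hs
      · rw [hs] at h2; norm_num at h2
      · rw [hs]; push_cast; ring
    · have h2 := Int.modEq_iff_dvd.1 D.S.congr_Y
      rw [← D.S.degree_Y θ hm, show charDegree (θ : G → ℂ) = dg θ from rfl, hd] at h2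
      simp only [List.mem_cons, List.not_mem_nil, or_false] at he
      rcases D.S.sign with hs | hs <;> rw [hs] at h2 <;> rcases he with rfl | rfl <;> norm_num at h2
      have hY : D.S.Y = {θ} := by
        obtain ⟨a, ha⟩ := Finset.card_eq_one.1 (D.S.card_Y.trans (by norm_num))
        rw [ha] at hm ⊢
        rw [Finset.mem_singleton.1 hm]
      have hv : ∀ y ∈ K, (θ : G → ℂ) (x * y) = -1 := by
        intro y hy
        have := D.S.value_Y x hx hx1 y (mem_regCent.1 hy).1 (mem_regCent.1 hy).2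
        rw [hY, Finset.sum_singleton, hs] at this
        simpa using this
      rw [Finset.sum_congr rfl hv, Finset.sum_const, nsmul_eq_mul]; ring
  rw [hF, hε] at horth
  apply hk
  push_cast at horth
  linear_combination horth / 2

end CfsgLib.Char.MTwentyFourOrder
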