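import Cfsg.Agent.Lib.Char.MTwentyFourOrder.Order.Basic

/-!
# Character values at elements of order three
-/

set_option autoImplicit false
set_option linter.all false

open Cfsg Finset CfsgLib.Perm.PrimeBlock CfsgLib.Block CfsgLib.Char.MEleven.Order CfsgLib.Char.MTwelveOrder
open CfsgLib.Char.MTwentyTwoOrder (PData)
open scoped ComplexConjugate

namespace CfsgLib.Char.MTwentyFourOrder

universe u

/-- A primitive cube root of unity. -/
noncomputable def cubeRoot : ℂ := ⟨-1 / 2, Real.sqrt 3 / 2⟩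

theorem cubeRoot_sq : cubeRoot * cubeRoot = -1 - cubeRoot := by
  have h3 : Real.sqrt 3 * Real.sqrt 3 = 3 := Real.mul_self_sqrt (by norm_num)
  apply Complex.ext <;> simp [cubeRoot] <;> nlinarith [h3]

theorem cubeRoot_cube : cubeRoot ^ 3 = 1 := by linear_combination (cubeRoot - 1) * cubeRoot_sq

theorem cubeRoot_conj : conj cubeRoot = -1 - cubeRoot := by
  apply Complex.ext <;> simp [cubeRoot] <;> ring

theorem normSq_coords (A B : ℝ) :
    Complex.normSq ((A : ℂ) + (B : ℂ) * cubeRoot) = A * A - A * B + B * B := by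
  have h3 : Real.sqrt 3 * Real.sqrt 3 = 3 := Real.mul_self_sqrt (by norm_num)
  simp [Complex.normSq_apply, cubeRoot]
  linear_combination (B * B / 4) * h3

theorem cube_cases {μ : ℂ} (h : μ ^ 3 = 1) : μ = 1 ∨ μ = cubeRoot ∨ μ = cubeRoot ^ 2 := by
  have h1 : (μ - 1) * ((μ - cubeRoot) * (μ - cubeRoot ^ 2)) = 0 := by
    linear_combination h + (-(μ ^ 2) + μ + μ * (cubeRoot - 1) - cubeRoot + 1) * cubeRoot_sq
  rcases mul_eq_zero.1 h1 with h2 | h2
  · exact Or.inl (sub_eq_zero.1 h2)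
  · rcases mul_eq_zero.1 h2 with h3 | h3
    · exact Or.inr (Or.inl (sub_eq_zero.1 h3))
    · exact Or.inr (Or.inr (sub_eq_zero.1 h3))

theorem sum_cube {ι : Type*} (μ : ι → ℂ) (hμ : ∀ i, μ i ^ 3 = 1) : ∀ s : Finset ι, ∃ n₁ n₂ : ℕ,
    n₁ + n₂ ≤ s.card ∧ ∑ i ∈ s, μ i =
      (((s.card : ℤ) - (n₁ + 2 * n₂) : ℤ) : ℂ) + (((n₁ : ℤ) - n₂ : ℤ) : ℂ) * cubeRoot := by
  classical
  intro s
  induction s using Finset.induction_on with
  | empty => exact ⟨0, 0, by simp, by simp⟩
  | insert a t hat ih =>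
    obtain ⟨n₁, n₂, hle, he⟩ := ih
    rw [Finset.card_insert_of_notMem hat, Finset.sum_insert hat, he]
    rcases cube_cases (hμ a) with h | h | h <;> rw [h]
    · exact ⟨n₁, n₂, by omega, by push_cast; ring⟩
    · exact ⟨n₁ + 1, n₂, by omega, by push_cast; ring⟩
    · exact ⟨n₁, n₂ + 1, by omega, by push_cast; linear_combination cubeRoot_sq⟩

variable {G : Type u} [Group G] [Fintype G]

/-- The coordinates of a value at an element of order dividing three. -/
theorem exists_coords (χ : IrrCharacter G) {v : G} (hv : v ^ 3 = 1) :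
    ∃ n₁ n₂ : ℕ, n₁ + n₂ ≤ dg χ ∧ (χ : G → ℂ) v =
      (((dg χ : ℤ) - (n₁ + 2 * n₂) : ℤ) : ℂ) + (((n₁ : ℤ) - n₂ : ℤ) : ℂ) * cubeRoot := by
  have hd := val_one χ
  obtain ⟨f, n, ρ, hρ, rfl⟩ := χ
  obtain ⟨b, μ, h1, -, h3⟩ := CfsgLib.Char.exists_eigen_data ρ v
  have hμ : ∀ i, μ i ^ 3 = 1 := fun i => by
    obtain ⟨k, hk⟩ := orderOf_dvd_of_pow_eq_one hv
    rw [hk, pow_mul, h1 i, one_pow]
  obtain ⟨n₁, n₂, hle, he⟩ := sum_cube μ hμ Finset.univ
  have hdim : Module.finrank ℂ (Fin n → ℂ) = dg (⟨_, n, ρ, hρ, rfl⟩ : IrrCharacter G) := by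
    have h := Representation.char_one ρ
    change ρ.character 1 = _ at hd
    rw [hd] at h
    exact_mod_cast h.symm
  have hv' := h3 1
  simp only [pow_one] at hv'
  rw [Finset.card_univ, Fintype.card_fin] at hle he
  refine ⟨n₁, n₂, hdim ▸ hle, ?_⟩
  show ρ.character v = _
  rw [hv', he, hdim]

/-- The coordinates of an integral multiple. -/
theorem dvd_coords {A B : ℤ} {n : ℕ} (hn : n ≠ 0) (h : IsIntegral ℤ (((A : ℂ) + (B : ℂ) * cubeRoot) / n)) :
    (n : ℤ) ∣ A ∧ (n : ℤ) ∣ B := by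
  have hnC : (n : ℂ) ≠ 0 := by exact_mod_cast hn
  have rat : ∀ {x : ℤ}, IsIntegral ℤ ((x : ℂ) / n) → (n : ℤ) ∣ x := by
    intro x hx
    rw [show (x : ℂ) / n = algebraMap ℚ ℂ ((x : ℚ) / n) by simp,
      isIntegral_algebraMap_iff (algebraMap ℚ ℂ).injective, IsIntegrallyClosed.isIntegral_iff] at hx
    obtain ⟨m, hm⟩ := hx
    rw [eq_intCast, eq_div_iff (by exact_mod_cast hn)] at hm
    exact ⟨m, by rw [mul_comm]; exact_mod_cast hm.symm⟩
  have hw : IsIntegral ℤ cubeRoot :=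
    CfsgLib.Char.isIntegral_of_pow_eq_one (by norm_num) cubeRoot_cube
  have hconj : IsIntegral ℤ (conj (((A : ℂ) + (B : ℂ) * cubeRoot) / n)) :=
    map_isIntegral_int (starRingEnd ℂ) h
  have d1 : (n : ℤ) ∣ 2 * A - B := by
    refine rat ?_
    have e : ((A : ℂ) + (B : ℂ) * cubeRoot) / n + conj (((A : ℂ) + (B : ℂ) * cubeRoot) / n) =
        ((2 * A - B : ℤ) : ℂ) / n := by
      rw [map_div₀, map_add, map_mul, map_intCast, map_intCast, map_natCast, cubeRoot_conj]
      push_cast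
      field_simp
      ring
    exact e ▸ h.add hconj
  have d2 : (n : ℤ) ∣ -B - A := by
    refine rat ?_
    have h2 := h.mul hw
    have h3 : IsIntegral ℤ (conj (((A : ℂ) + (B : ℂ) * cubeRoot) / n * cubeRoot)) :=
      map_isIntegral_int (starRingEnd ℂ) h2
    have e : ((A : ℂ) + (B : ℂ) * cubeRoot) / n * cubeRoot +
        conj (((A : ℂ) + (B : ℂ) * cubeRoot) / n * cubeRoot) = ((-B - A : ℤ) : ℂ) / n := by
      rw [map_mul, map_div₀, map_add, map_mul, map_intCast, map_intCast, map_natCast, cubeRoot_conj]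
      push_cast
      field_simp
      linear_combination (2 * (B : ℂ)) * cubeRoot_sq
    exact e ▸ h2.add h3
  have d3 : ((n : ℤ) * n) ∣ A * A - A * B + B * B := by
    have h2 := h.mul hconj
    rw [map_div₀, map_add, map_mul, map_intCast, map_intCast, map_natCast, cubeRoot_conj] at h2
    have h4 : ((n * n : ℕ) : ℤ) ∣ A * A - A * B + B * B := by
      rw [show ((A : ℂ) + (B : ℂ) * cubeRoot) / n * (((A : ℂ) + (B : ℂ) * (-1 - cubeRoot)) / n) =
        ((A * A - A * B + B * B : ℤ) : ℂ) / ((n * n : ℕ) : ℂ) by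
          push_cast; field_simp; linear_combination (-(B : ℂ) * B) * cubeRoot_sq,
        show ((A * A - A * B + B * B : ℤ) : ℂ) / ((n * n : ℕ) : ℂ) =
          algebraMap ℚ ℂ (((A * A - A * B + B * B : ℤ) : ℚ) / (n * n : ℕ)) by simp,
        isIntegral_algebraMap_iff (algebraMap ℚ ℂ).injective, IsIntegrallyClosed.isIntegral_iff] at h2
      obtain ⟨m, hm⟩ := h2
      rw [eq_intCast, eq_div_iff (by exact_mod_cast Nat.mul_ne_zero hn hn)] at hm
      have e : A * A - A * B + B * B = m * ((n * n : ℕ) : ℤ) := by exact_mod_cast hm.symm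
      exact ⟨m, e.trans (mul_comm _ _)⟩
    exact_mod_cast h4
  obtain ⟨r, hr⟩ := d1
  obtain ⟨s, hs⟩ := d2
  obtain ⟨t, ht⟩ := d3
  have hA : (3 : ℤ) * A = n * (r - s) := by linarith
  have hB : (3 : ℤ) * B = n * (-r - 2 * s) := by linarith
  have hnz : (n : ℤ) ≠ 0 := by exact_mod_cast hn
  have key : r * r + r * s + s * s = 3 * t := by
    have h9 : (n : ℤ) * n * (3 * (r * r + r * s + s * s)) = n * n * (9 * t) := by
      have e1 : 9 * (A * A - A * B + B * B) = (3 * A) * (3 * A) - (3 * A) * (3 * B) + (3 * B) * (3 * B) := by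
        ring
      rw [hA, hB] at e1
      linear_combination 9 * ht - e1
    have := mul_left_cancel₀ (mul_ne_zero hnz hnz) h9
    linarith
  have h3rs : (3 : ℤ) ∣ r - s := by
    have h1 : (3 : ℤ) ∣ (r - s) * (r - s) := ⟨t - r * s, by linear_combination key⟩
    exact (Int.prime_three.dvd_mul.1 h1).elim id id
  obtain ⟨k, hk⟩ := h3rs
  exact ⟨⟨k, by rw [hk] at hA; linarith⟩, ⟨-r + 2 * k, by
    rw [show s = r - 3 * k by linarith] at hB; linarith⟩⟩

end CfsgLib.Char.MTwentyFourOrder
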