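import Cfsg.Agent.Lib.Char.MTwentyFourOrder.Order.Value
import Cfsg.Agent.Lib.Char.MTwentyThreeOrder.Phase.Tools

/-!
# Simple groups of order 244823040: the Sylow 23-subgroup is self-centralizing
-/

set_option autoImplicit false
set_option linter.all false

open Cfsg Subgroup CfsgLib.Perm.PrimeBlock CfsgLib.Block CfsgLib.Char.MEleven.Order CfsgLib.Char.MTwelveOrder
open CfsgLib.Char.MTwentyTwoOrder (PData exists_pdata sylow_split card_sylow_eq card_modEq_fixed)
open CfsgLib.Char.MTwentyThreeOrder (prime_centralizes)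

namespace CfsgLib.Char.MTwentyFourOrder

universe u

/-- The regular part and its part of 3-power order. -/
def regCases : List (ℕ × ℕ) := [(24, 3), (12, 3), (576, 9), (288, 9), (13824, 27), (6912, 27)]

theorem reg_residues : ∀ x ∈ regCases, ∀ d ∈ divs,
    x.1 % d = 0 → d % 11 = x.1 % 11 → d % x.2 = 0 → d = x.1 := by decide +kernel

theorem three_residues : ∀ r ∈ [3, 9, 27], ∀ d < 28, r % d = 0 → d % 11 = r % 11 → d = r := by
  decide +kernel

theorem j_values : ∀ j ∈ divs, 967680 % j = 0 → j % 23 = 1 →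
    j ∈ [1, 24, 70, 576, 1680, 13824, 40320, 967680] := by decide +kernel

theorem k_values : ∀ k < 577, 576 % k = 0 → k % 3 = 0 →
    k ∈ [3, 6, 12, 24, 48, 96, 192, 9, 18, 36, 72, 144, 288, 576] := by decide +kernel

theorem n_values : ∀ n ∈ divs, 3220 % n = 0 → n % 11 = 1 → n = 1 ∨ n = 23 := by decide +kernel

variable {G : Type u} [Group G] [Fintype G] [IsSimpleGroup G]

section Data

variable {e c : ℕ} [Fact (Nat.Prime 23)] [Fact (Nat.Prime 11)] (D : PData G 23 e c)

include D in
/-- An element of order eleven centralizing the regular part. -/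
theorem exists_reg_centralizer {r : ℕ} (hc : (c, r) ∈ regCases) (he : e = 11 ∨ e = 22) :
    ∃ (K R : Subgroup G) (y : G), Nat.card K = c ∧ Nat.card R = r ∧ R ≤ K ∧
      K ≤ centralizer ((D.P : Subgroup G) : Set G) ∧
      normalizer ((D.P : Subgroup G) : Set G) ≤ normalizer (K : Set G) ∧
      K ≤ centralizer ({y} : Set G) ∧ orderOf y = 11 ∧ y ∈ normalizer ((D.P : Subgroup G) : Set G) := by
  classical
  haveI : Fact (Nat.Prime 3) := ⟨by norm_num⟩
  obtain ⟨K, hK, hKc, hNK⟩ := D.exists_K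
  set N := normalizer ((D.P : Subgroup G) : Set G) with hN
  have hKC : K ≤ centralizer ((D.P : Subgroup G) : Set G) := fun w hw => ((hK w).1 hw).1
  have hKN : K ≤ N := hKC.trans (centralizer_le_normalizer _)
  haveI : (K.subgroupOf N).Normal := (normal_subgroupOf_iff_le_normalizer hKN).2 hNK
  obtain ⟨S⟩ : Nonempty (Sylow 3 (K.subgroupOf N)) := inferInstance
  set M := (S : Subgroup (K.subgroupOf N)).map (K.subgroupOf N).subtype with hM
  have hfr : normalizer (M : Set N) ⊔ K.subgroupOf N = ⊤ := Sylow.normalizer_sup_eq_top S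
  have hKcard : Nat.card (K.subgroupOf N) = c := by rw [Nat.card_congr (subgroupOfEquivOfLe hKN).toEquiv, hKc]
  have hc0 : 0 < c := hKcard ▸ Nat.card_pos
  have h1 : Nat.card N ∣ Nat.card (normalizer (M : Set N)) * c := by
    have h2 : (K.subgroupOf N).relIndex (normalizer (M : Set N)) = (K.subgroupOf N).index := by
      rw [← Subgroup.relIndex_sup_right (normalizer (M : Set N)) (K.subgroupOf N), hfr, Subgroup.relIndex_top_right]
    rw [← hKcard, ← (K.subgroupOf N).card_mul_index, mul_comm (Nat.card (normalizer (M : Set N)))]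
    refine Nat.mul_dvd_mul_left _ ?_
    rw [← h2]
    exact Subgroup.relIndex_dvd_card _ _
  rw [D.norm_P] at h1
  simp only [regCases, List.mem_cons, List.not_mem_nil, or_false, Prod.mk.injEq] at hc
  have h11c : ¬ 11 ∣ c := by rcases hc with h | h | h | h | h | h <;> rw [h.1] <;> norm_num
  have h11 : 11 ∣ Nat.card (normalizer (M : Set N)) :=
    ((Nat.Prime.dvd_mul (by norm_num : Nat.Prime 11)).1
      ((Dvd.dvd.mul_right (by rcases he with rfl | rfl <;> norm_num) _).trans h1)).resolve_right h11c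
  obtain ⟨y', hy'⟩ := exists_prime_orderOf_dvd_card' 11 h11
  set y : G := ((y' : N) : G) with hy
  have hyo : orderOf y = 11 := by rw [hy, Subgroup.orderOf_coe, Subgroup.orderOf_coe, hy']
  have hyN : y ∈ N := (y' : N).2
  set R := M.map N.subtype with hR
  have hRK : R ≤ K := by
    rintro w ⟨a, ⟨b, hb, rfl⟩, rfl⟩
    exact b.2
  have hyR : y ∈ normalizer (R : Set G) := le_normalizer_map N.subtype ⟨(y' : N), y'.2, rfl⟩
  have hRS : Nat.card R = Nat.card (S : Subgroup (K.subgroupOf N)) := by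
    rw [hR, card_map_of_injective N.subtype_injective, hM, card_map_of_injective (K.subgroupOf N).subtype_injective]
  have hRc : Nat.card R = r := by
    rcases hc with ⟨h, rfl⟩ | ⟨h, rfl⟩ | ⟨h, rfl⟩ | ⟨h, rfl⟩ | ⟨h, rfl⟩ | ⟨h, rfl⟩
    · rw [hRS, card_sylow_eq S (a := 1) (m := 8) (by rw [hKcard, h]; norm_num) (by norm_num)]; norm_num
    · rw [hRS, card_sylow_eq S (a := 1) (m := 4) (by rw [hKcard, h]; norm_num) (by norm_num)]; norm_num
    · rw [hRS, card_sylow_eq S (a := 2) (m := 64) (by rw [hKcard, h]; norm_num) (by norm_num)]; norm_num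
    · rw [hRS, card_sylow_eq S (a := 2) (m := 32) (by rw [hKcard, h]; norm_num) (by norm_num)]; norm_num
    · rw [hRS, card_sylow_eq S (a := 3) (m := 512) (by rw [hKcard, h]; norm_num) (by norm_num)]; norm_num
    · rw [hRS, card_sylow_eq S (a := 3) (m := 256) (by rw [hKcard, h]; norm_num) (by norm_num)]; norm_num
  refine ⟨K, R, y, hKc, hRc, hRK, hKC, hNK, ?_, hyo, hyN⟩
  have hr : r ∈ [3, 9, 27] := by
    rcases hc with ⟨-, rfl⟩ | ⟨-, rfl⟩ | ⟨-, rfl⟩ | ⟨-, rfl⟩ | ⟨-, rfl⟩ | ⟨-, rfl⟩ <;> simp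
  have hr27 : r < 28 := by simp only [List.mem_cons, List.not_mem_nil, or_false] at hr; omega
  have hr0 : 0 < r := by simp only [List.mem_cons, List.not_mem_nil, or_false] at hr; omega
  have hcent : R ≤ centralizer ({y} : Set G) := prime_centralizes hyo hyR fun d hd hmod => by
    rw [hRc] at hd hmod ⊢
    exact three_residues r hr d (lt_of_le_of_lt (Nat.le_of_dvd hr0 hd) hr27) (Nat.mod_eq_zero_of_dvd hd) hmod
  have hdv : r ∣ Nat.card ↥(K ⊓ centralizer ({y} : Set G)) := hRc ▸ card_dvd_of_le (le_inf hRK hcent)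
  have hres := card_modEq_fixed K hyo (hNK hyN)
  rw [hKc] at hres
  have hdc : Nat.card ↥(K ⊓ centralizer ({y} : Set G)) ∣ c := hKc ▸ card_dvd_of_le inf_le_left
  have hcg : c ∣ 244823040 := by rcases hc with h | h | h | h | h | h <;> rw [h.1] <;> norm_num
  have hmemr : (c, r) ∈ regCases := by
    simp only [regCases, List.mem_cons, List.not_mem_nil, or_false, Prod.mk.injEq]
    exact hc
  have hd := reg_residues (c, r) hmemr _ (mem_divs (hdc.trans hcg)) (Nat.mod_eq_zero_of_dvd hdc) hres.symm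
    (Nat.mod_eq_zero_of_dvd hdv)
  have he' : K ⊓ centralizer ({y} : Set G) = K := eq_of_le_of_card_ge inf_le_left (by rw [hd, hKc])
  exact he' ▸ inf_le_right

include D in
/-- A transitive action on twenty-three points leaves no room for a regular part. -/
theorem reg_eq_one_of_index (hpc : ¬ 23 ∣ c) {H : Subgroup G} (hH : H.index = 23) : c = 1 := by
  classical
  have hne : ∃ (g : G) (a : G ⧸ H), g • a ≠ a := by
    obtain ⟨g, hg⟩ : ∃ g, g ∉ H := by
      by_contra hno
      push Not at hno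
      rw [show H = ⊤ from eq_top_iff.2 fun g _ => hno g, Subgroup.index_top] at hH
      norm_num at hH
    refine ⟨g, ((1 : G) : G ⧸ H), fun e1 => hg ?_⟩
    rw [MulAction.Quotient.smul_coe, smul_eq_mul, mul_one, eq_comm, QuotientGroup.eq] at e1
    simpa using e1
  haveI := CfsgLib.Perm.PrimeBlock.faithful_of_nontrivial hne
  have hfixed : Nat.card (MulAction.fixedPoints (D.P : Subgroup G) (G ⧸ H)) = 0 := by
    have hP : IsPGroup 23 (D.P : Subgroup G) := D.P.isPGroup'
    have h1 := hP.card_modEq_card_fixedPoints (G ⧸ H)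
    rw [← Subgroup.index_eq_card, hH] at h1
    have h2 : Nat.card (MulAction.fixedPoints (D.P : Subgroup G) (G ⧸ H)) ≤ 23 := by
      refine (Nat.card_le_card_of_injective _ Subtype.val_injective).trans (le_of_eq ?_)
      rw [← Subgroup.index_eq_card, hH]
    by_contra h0
    have h23 : Nat.card (MulAction.fixedPoints (D.P : Subgroup G) (G ⧸ H)) = 23 := by
      have := Nat.ModEq.symm h1
      unfold Nat.ModEq at this
      omega
    obtain ⟨x, hx, hxo⟩ := D.exists_elt
    have hbij := (Nat.bijective_iff_injective_and_card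
      (Subtype.val : MulAction.fixedPoints (D.P : Subgroup G) (G ⧸ H) → G ⧸ H)).2
        ⟨Subtype.val_injective, by rw [h23, ← Subgroup.index_eq_card, hH]⟩
    have hx1 : x = 1 := FaithfulSMul.eq_of_smul_eq_smul (α := G ⧸ H) fun q => by
      obtain ⟨q', rfl⟩ := hbij.2 q
      rw [one_smul]
      exact q'.2 ⟨x, hx⟩
    rw [hx1, orderOf_one] at hxo
    norm_num at hxo
  have horb := CfsgLib.Perm.PrimeBlock.card_orbits (α := G ⧸ H) D.card_P hfixed
  rw [← Subgroup.index_eq_card, hH] at horb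
  have h2 := CfsgLib.Perm.PrimeBlock.dvd_factorial_orbits (α := G ⧸ H) D.card_P D.cent_P hpc
  rw [mul_zero, add_zero] at horb
  have hm := Nat.eq_of_mul_eq_mul_left (by norm_num) (horb.trans (mul_one 23).symm)
  rw [hm] at h2
  simpa using h2

include D in
/-- Seventy Sylow subgroups are impossible in a subgroup containing the element of order eleven. -/
theorem not_seventy (hqc : ¬ 11 ∣ c) (he : e = 11 ∨ e = 22) {K H : Subgroup G} {y : G}
    (hKc : Nat.card K = c) (hKC : K ≤ centralizer ((D.P : Subgroup G) : Set G))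
    (hNK : normalizer ((D.P : Subgroup G) : Set G) ≤ normalizer (K : Set G))
    (hKy : K ≤ centralizer ({y} : Set G)) (hyo : orderOf y = 11)
    (hyN : y ∈ normalizer ((D.P : Subgroup G) : Set G)) (hPH : (D.P : Subgroup G) ≤ H) (hyH : y ∈ H)
    (hcard : Nat.card H = 70 * Nat.card ↥(H ⊓ normalizer ((D.P : Subgroup G) : Set G))) : False := by
  classical
  set N := normalizer ((D.P : Subgroup G) : Set G) with hN
  set I := H ⊓ N with hI
  obtain ⟨x, hx, hxo⟩ := D.exists_elt
  have hxH : x ∈ H := hPH hx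
  have hKN : K ≤ N := hKC.trans (centralizer_le_normalizer _)
  -- the part of the regular subgroup in `H`
  have hId : Nat.card I ∣ Nat.card ↥(K ⊓ H) * (23 * e) := by
    have h1 : I ≤ normalizer (K : Set G) := inf_le_right.trans hNK
    have h2 : K.relIndex I ∣ K.relIndex N := by
      haveI : (K.subgroupOf N).Normal := (normal_subgroupOf_iff_le_normalizer hKN).2 hNK
      rw [Subgroup.relIndex, Subgroup.relIndex,
        show (K.subgroupOf I).index = (K.subgroupOf N).relIndex (I.subgroupOf N) by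
          rw [Subgroup.relIndex_subgroupOf inf_le_right]; rfl]
      exact Subgroup.relIndex_dvd_index_of_normal _ _
    have h3 : K.relIndex N = 23 * e := by
      have h4 := (K.subgroupOf N).card_mul_index
      rw [Nat.card_congr (subgroupOfEquivOfLe hKN).toEquiv, hKc, D.norm_P] at h4
      have hc0 : 0 < c := hKc ▸ Nat.card_pos
      rw [Subgroup.relIndex]
      exact Nat.eq_of_mul_eq_mul_left hc0 (h4.trans (by ring))
    rw [h3] at h2
    have h5 := (K.subgroupOf I).card_mul_index
    rw [← h5, ← Subgroup.relIndex]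
    refine Nat.mul_dvd_mul (dvd_of_eq ?_) h2
    rw [← Subgroup.inf_subgroupOf_right K I, Nat.card_congr (subgroupOfEquivOfLe inf_le_right).toEquiv,
      show K ⊓ I = K ⊓ H from le_antisymm (inf_le_inf le_rfl inf_le_left)
        (le_inf inf_le_left (le_inf inf_le_right (inf_le_left.trans hKN)))]
  -- the normalizer of the Sylow 11-subgroup of `H`
  obtain ⟨Y, hY⟩ := (IsPGroup.of_card (p := 11) (n := 1) (G := zpowers (⟨y, hyH⟩ : H))
    (by rw [Nat.card_zpowers, Subgroup.orderOf_mk, hyo, pow_one])).exists_le_sylow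
  have hk0 : ¬ 11 ∣ Nat.card ↥(K ⊓ H) := fun hd => hqc (hd.trans (hKc ▸ card_dvd_of_le inf_le_left))
  have hYc : Nat.card (Y : Subgroup H) = 11 := by
    obtain ⟨a, ha⟩ := IsPGroup.iff_card.1 Y.isPGroup'
    have h1 := card_dvd_of_le hY
    rw [Nat.card_zpowers, Subgroup.orderOf_mk, hyo, ha] at h1
    have h2 : 11 ^ a ∣ 70 * (Nat.card ↥(K ⊓ H) * (23 * e)) :=
      (ha ▸ card_subgroup_dvd_card (Y : Subgroup H)).trans (hcard ▸ Nat.mul_dvd_mul_left 70 hId)
    have ha1 : a < 2 := by
      by_contra ha2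
      have h3 := (pow_dvd_pow 11 (by omega : 2 ≤ a)).trans h2
      have hcop : Nat.Coprime (11 ^ 2) (Nat.card ↥(K ⊓ H)) :=
        Nat.Coprime.pow_left 2 ((Nat.Prime.coprime_iff_not_dvd (by norm_num)).2 hk0)
      rw [show 70 * (Nat.card ↥(K ⊓ H) * (23 * e)) = Nat.card ↥(K ⊓ H) * (70 * (23 * e)) by ring] at h3
      have h4 := hcop.dvd_of_dvd_mul_left h3
      rcases he with rfl | rfl <;> norm_num at h4
    interval_cases a
    · norm_num at h1
    · rw [ha, pow_one]
  have hyY : (⟨y, hyH⟩ : H) ∈ (Y : Subgroup H) := hY (mem_zpowers _)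
  have hYz : zpowers (⟨y, hyH⟩ : H) = (Y : Subgroup H) := eq_of_le_of_card_ge hY (by
    rw [Nat.card_zpowers, Subgroup.orderOf_mk, hyo, hYc])
  set M := normalizer (Y : Set H) with hM
  have hKM : (K ⊓ H).subgroupOf H ≤ M := by
    intro w hw
    have hwy : Commute w (⟨y, hyH⟩ : H) := Subtype.ext (mem_centralizer_singleton_iff.1 (hKy hw.1))
    show w ∈ normalizer ((Y : Subgroup H) : Set H)
    rw [mem_normalizer_iff]
    intro a
    rw [← hYz]
    constructor
    · rintro ⟨k, rfl⟩
      exact ⟨k, by show _ = w * (⟨y, hyH⟩ : H) ^ k * w⁻¹; rw [(hwy.zpow_right k).eq, mul_inv_cancel_right]⟩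
    · rintro ⟨k, hk⟩
      refine ⟨k, ?_⟩
      have hk' : (⟨y, hyH⟩ : H) ^ k = w * a * w⁻¹ := hk
      calc (⟨y, hyH⟩ : H) ^ k = w⁻¹ * ((⟨y, hyH⟩ : H) ^ k * w) := by
            rw [← (hwy.zpow_right k).eq, inv_mul_cancel_left]
        _ = a := by rw [hk']; group
  have h11k : 11 * Nat.card ↥(K ⊓ H) ∣ Nat.card M := by
    refine ((Nat.Prime.coprime_iff_not_dvd (by norm_num)).2 hk0).mul_dvd_of_dvd_of_dvd
      (hYc ▸ card_dvd_of_le le_normalizer) ?_
    rw [← Nat.card_congr (subgroupOfEquivOfLe (inf_le_right : K ⊓ H ≤ H)).toEquiv]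
    exact card_dvd_of_le hKM
  have hn : Nat.card (Sylow 11 H) = 23 := by
    have h1 := M.card_mul_index
    rw [hM, ← Y.card_eq_index_normalizer, ← hM, hcard] at h1
    have h2 : 11 * Nat.card ↥(K ⊓ H) * Nat.card (Sylow 11 H) ∣
        11 * Nat.card ↥(K ⊓ H) * 3220 := by
      refine (h1 ▸ Nat.mul_dvd_mul_right h11k _ : _ ∣ 70 * Nat.card I).trans
        ((Nat.mul_dvd_mul_left 70 hId).trans ?_)
      rcases he with rfl | rfl
      · exact ⟨2, by ring⟩
      · exact ⟨1, by ring⟩
    have h3 := Nat.dvd_of_mul_dvd_mul_left (Nat.mul_pos (by norm_num) Nat.card_pos) h2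
    have h4 := card_sylow_modEq_one 11 H
    rw [Nat.ModEq, Nat.one_mod] at h4
    rcases n_values _ (mem_divs (h3.trans (by norm_num))) (Nat.mod_eq_zero_of_dvd h3) h4
      with h5 | h5
    · exfalso
      haveI : Subsingleton (Sylow 11 H) := (Nat.card_eq_one_iff_unique.1 h5).1
      haveI := Y.normal_of_subsingleton
      have hxN : (⟨x, hxH⟩ : H) ∈ normalizer ((Y : Subgroup H) : Set H) := by
        rw [normalizer_eq_top]; exact mem_top _
      have hle := prime_centralizes (G := H) (p := 23) (y := ⟨x, hxH⟩) (by rw [Subgroup.orderOf_mk, hxo]) hxN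
        fun d hd hmod => by
          rw [hYc] at hd hmod ⊢
          rcases (Nat.dvd_prime (by norm_num)).1 hd with rfl | rfl <;> simp at hmod ⊢
      have h6 := Subgroup.orderOf_dvd_natCard (centralizer ({x} : Set G))
        (mem_centralizer_singleton_iff.2 (congrArg Subtype.val (mem_centralizer_singleton_iff.1 (hle hyY))))
      rw [D.cent_of_order hxo, hyo] at h6
      rcases (Nat.Prime.dvd_mul (by norm_num)).1 h6 with h7 | h7
      · norm_num at h7
      · exact hqc h7
    · exact h5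
  -- every Sylow 11-subgroup of `H` normalizes the Sylow 23-subgroup
  set x' : H := ⟨x, hxH⟩ with hx'
  have hx'o : orderOf x' = 23 := by rw [hx', Subgroup.orderOf_mk, hxo]
  have hall : ∀ h : H, ((h : G) * y * (h : G)⁻¹) ∈ N := by
    have hns : x' • Y ≠ Y := fun e1 => by
      rw [Sylow.smul_eq_iff_mem_normalizer] at e1
      have hle := prime_centralizes (G := H) (p := 23) hx'o e1 fun d hd hmod => by
        rw [hYc] at hd hmod ⊢
        rcases (Nat.dvd_prime (by norm_num)).1 hd with rfl | rfl <;> simp at hmod ⊢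
      have h6 := Subgroup.orderOf_dvd_natCard (centralizer ({x} : Set G))
        (mem_centralizer_singleton_iff.2 (congrArg Subtype.val (mem_centralizer_singleton_iff.1 (hle hyY))))
      rw [D.cent_of_order hxo, hyo] at h6
      rcases (Nat.Prime.dvd_mul (by norm_num)).1 h6 with h7 | h7
      · norm_num at h7
      · exact hqc h7
    have horb : Nat.card (MulAction.orbit (zpowers x') Y) = 23 := by
      have hP : IsPGroup 23 (zpowers x') :=
        IsPGroup.of_card (n := 1) (by rw [Nat.card_zpowers, hx'o, pow_one])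
      obtain ⟨a, ha⟩ := hP.card_orbit Y
      have hle : Nat.card (MulAction.orbit (zpowers x') Y) ≤ 23 :=
        hn ▸ Nat.card_le_card_of_injective _ Subtype.val_injective
      rcases a with _ | _ | a
      · exfalso
        rw [pow_zero] at ha
        obtain ⟨hs, -⟩ := Nat.card_eq_one_iff_unique.1 ha
        exact hns (congrArg Subtype.val (Subsingleton.elim
          (⟨x' • Y, ⟨⟨x', mem_zpowers x'⟩, rfl⟩⟩ : MulAction.orbit (zpowers x') Y)
          ⟨Y, MulAction.mem_orbit_self Y⟩))
      · simpa using ha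
      · exfalso
        have : 23 ^ 2 ≤ 23 ^ (a + 1 + 1) := Nat.pow_le_pow_right (by norm_num) (by omega)
        omega
    have hbij := (Nat.bijective_iff_injective_and_card
      (Subtype.val : MulAction.orbit (zpowers x') Y → Sylow 11 H)).2 ⟨Subtype.val_injective, horb.trans hn.symm⟩
    intro h
    obtain ⟨⟨q, ⟨z, hz⟩⟩, hq⟩ := hbij.2 (h • Y)
    have hzq : (z : H) • Y = h • Y := hz.trans hq
    have hmem : h * ⟨y, hyH⟩ * h⁻¹ ∈ ((h • Y : Sylow 11 H) : Subgroup H) := by
      rw [Sylow.coe_subgroup_smul]; exact ⟨_, hyY, rfl⟩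
    rw [← hzq, Sylow.coe_subgroup_smul, ← hYz] at hmem
    obtain ⟨b, ⟨m, rfl⟩, hb⟩ := hmem
    have hb' := congrArg Subtype.val hb
    show ((h * ⟨y, hyH⟩ * h⁻¹ : H) : G) ∈ N
    rw [← hb']
    have hzN : ((z : H) : G) ∈ N := by
      obtain ⟨i, hi⟩ := mem_zpowers_iff.1 z.2
      rw [← hi]
      show ((x' ^ i : H) : G) ∈ N
      rw [SubgroupClass.coe_zpow]
      exact zpow_mem (le_normalizer hx) i
    show ((z : H) : G) * ((⟨y, hyH⟩ : H) ^ m : H) * ((z : H) : G)⁻¹ ∈ N
    rw [SubgroupClass.coe_zpow]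
    exact mul_mem (mul_mem hzN (zpow_mem hyN m)) (inv_mem hzN)
  -- a commutator generating the Sylow 23-subgroup normalizes all its conjugates
  set q := x * y * x⁻¹ * y⁻¹ with hq
  have hqP : q ∈ (D.P : Subgroup G) := by
    rw [hq, show x * y * x⁻¹ * y⁻¹ = x * (y * x⁻¹ * y⁻¹) by group]
    exact mul_mem hx ((mem_normalizer_iff.1 hyN x⁻¹).1 (inv_mem hx))
  have hq1 : q ≠ 1 := fun e1 => by
    have h2 : x * y = y * x := by
      have h3 : x * y * x⁻¹ * y⁻¹ = 1 := e1
      calc x * y = (x * y * x⁻¹ * y⁻¹) * (y * x) := by group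
        _ = y * x := by rw [h3, one_mul]
    have h6 := Subgroup.orderOf_dvd_natCard (centralizer ({x} : Set G))
      (mem_centralizer_singleton_iff.2 h2.symm)
    rw [D.cent_of_order hxo, hyo] at h6
    rcases (Nat.Prime.dvd_mul (by norm_num)).1 h6 with h7 | h7
    · norm_num at h7
    · exact hqc h7
  have hPz : zpowers q = (D.P : Subgroup G) := eq_of_le_of_card_ge (zpowers_le.2 hqP) (by
    rw [Nat.card_zpowers, orderOf_mem D.card_P hqP hq1, D.card_P])
  have hPconj : ∀ h ∈ H, ∀ w ∈ (D.P : Subgroup G), h * w * h⁻¹ ∈ N := by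
    intro h hh w hw
    have hqh : h * q * h⁻¹ ∈ N := by
      have h1 := hall ⟨h * x, mul_mem hh hxH⟩
      have h2 := hall ⟨h, hh⟩
      rw [hq, show h * (x * y * x⁻¹ * y⁻¹) * h⁻¹ = (h * x) * y * (h * x)⁻¹ * (h * y * h⁻¹)⁻¹ by group]
      exact mul_mem h1 (inv_mem h2)
    rw [← hPz] at hw
    obtain ⟨m, rfl⟩ := hw
    show h * q ^ m * h⁻¹ ∈ N
    rw [← conj_zpow]
    exact zpow_mem hqh m
  -- hence only one Sylow subgroup
  have hnorm : H ≤ N := by
    intro h hh
    refine mem_normalizer_fintype fun w hw => ?_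
    have hwN := hPconj h hh w hw
    haveI : Subsingleton (Sylow 23 N) := by
      haveI : ((D.P : Subgroup G).subgroupOf N).Normal :=
        (normal_subgroupOf_iff_le_normalizer le_normalizer).2 le_rfl
      haveI := Sylow.unique_of_normal (D.P.subtype le_normalizer) (by rwa [Sylow.coe_subtype])
      infer_instance
    have hwo : orderOf (⟨h * w * h⁻¹, hwN⟩ : N) ∣ 23 := by
      rw [Subgroup.orderOf_mk, show h * w * h⁻¹ = MulAut.conj h w from rfl, MulEquiv.orderOf_eq]
      exact D.card_P ▸ Subgroup.orderOf_dvd_natCard _ hw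
    obtain ⟨Q, hQ⟩ : ∃ Q : Sylow 23 N, (⟨h * w * h⁻¹, hwN⟩ : N) ∈ (Q : Subgroup N) := by
      rcases (Nat.dvd_prime (by norm_num)).1 hwo with ho | ho
      · obtain ⟨Q⟩ : Nonempty (Sylow 23 N) := inferInstance
        exact ⟨Q, by rw [orderOf_eq_one_iff.1 ho]; exact one_mem _⟩
      · obtain ⟨Q, hQ⟩ := (IsPGroup.of_card (p := 23) (n := 1) (G := zpowers (⟨h * w * h⁻¹, hwN⟩ : N))
          (by rw [Nat.card_zpowers, ho, pow_one])).exists_le_sylow
        exact ⟨Q, hQ (mem_zpowers _)⟩
    rw [Subsingleton.elim Q (D.P.subtype le_normalizer), Sylow.coe_subtype] at hQ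
    exact hQ
  rw [hI, inf_eq_left.2 hnorm] at hcard
  have := Nat.card_pos (α := H)
  omega

include D in
/-- The centralizer of an element of order three of the regular part lies in the Sylow normalizer. -/
theorem cent_three_le {e' c' : ℕ} (h : Nat.card G = 244823040) (D' : PData G 11 e' c') (he' : e' ∈ [2, 5, 10])
    (hpc' : ¬ 23 ∣ c') (hqc : ¬ 11 ∣ c) (he : e = 11 ∨ e = 22) (hec : e * c ∣ 11 * 576)
    {K : Subgroup G} {y : G} (hKc : Nat.card K = c) (hKC : K ≤ centralizer ((D.P : Subgroup G) : Set G))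
    (hNK : normalizer ((D.P : Subgroup G) : Set G) ≤ normalizer (K : Set G))
    (hKy : K ≤ centralizer ({y} : Set G)) (hyo : orderOf y = 11)
    (hyN : y ∈ normalizer ((D.P : Subgroup G) : Set G)) {v : G} (hv : v ∈ K) (hvo : orderOf v = 3) :
    centralizer ({v} : Set G) ≤ normalizer ((D.P : Subgroup G) : Set G) := by
  classical
  set N := normalizer ((D.P : Subgroup G) : Set G) with hN
  set H := centralizer ({v} : Set G) with hH
  have hPH : (D.P : Subgroup G) ≤ H := fun w hw =>
    mem_centralizer_singleton_iff.2 (mem_centralizer_iff.1 (hKC hv) w hw)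
  have hvy : v * y = y * v := mem_centralizer_singleton_iff.1 (hKy hv)
  have hyH : y ∈ H := mem_centralizer_singleton_iff.2 hvy.symm
  obtain ⟨j, hj, hcard⟩ := sylow_split D.P hPH
  set I := H ⊓ N with hI
  have h759 : 253 * 3 ∣ Nat.card I := by
    rw [show (253 : ℕ) = 23 * 11 by norm_num]
    refine (show Nat.Coprime (23 * 11) 3 by norm_num).mul_dvd_of_dvd_of_dvd
      ((show Nat.Coprime 23 11 by norm_num).mul_dvd_of_dvd_of_dvd ?_ ?_) ?_
    · exact D.card_P ▸ card_dvd_of_le (le_inf hPH le_normalizer)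
    · exact hyo ▸ Subgroup.orderOf_dvd_natCard I ⟨hyH, hyN⟩
    · exact hvo ▸ Subgroup.orderOf_dvd_natCard I
        ⟨mem_centralizer_singleton_iff.2 rfl, centralizer_le_normalizer _ (hKC hv)⟩
  obtain ⟨k', hk'⟩ := h759
  have hId : Nat.card I ∣ 253 * 576 := by
    refine (card_dvd_of_le (inf_le_right : I ≤ N)).trans ?_
    rw [hN, D.norm_P, show e * (23 * c) = 23 * (e * c) by ring, show 253 * 576 = 23 * (11 * 576) by norm_num]
    exact Nat.mul_dvd_mul_left _ hec
  have hk : 3 * k' ∣ 576 := by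
    rw [hk', mul_assoc] at hId
    exact Nat.dvd_of_mul_dvd_mul_left (by norm_num) hId
  have hkmem := k_values (3 * k') (Nat.lt_succ_of_le (Nat.le_of_dvd (by norm_num) hk))
    (Nat.mod_eq_zero_of_dvd hk) (by omega)
  have hC : Nat.card H = 253 * ((3 * k') * j) := by rw [hcard, hk']; ring
  have hdvd : (3 * k') * j ∣ 967680 := by
    have h0 := Subgroup.card_subgroup_dvd_card H
    rw [hC, h, show (244823040 : ℕ) = 253 * 967680 by norm_num] at h0
    exact Nat.dvd_of_mul_dvd_mul_left (by norm_num) h0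
  have hjd : j ∣ 967680 := (dvd_mul_left j _).trans hdvd
  have hjmem := j_values j (mem_divs (hjd.trans (by norm_num))) (Nat.mod_eq_zero_of_dvd hjd) hj
  have hpair : (3 * k', j) ∈ centPairs := by
    simp only [centPairs, List.mem_filter, List.mem_flatMap, List.mem_map, beq_iff_eq]
    exact ⟨⟨_, hkmem, j, hjmem, rfl⟩, Nat.mod_eq_zero_of_dvd hdvd⟩
  rcases cent_three_cases h D D' (by simpa using he) he' hpc' hqc hvo (hKC hv) hyo hvy hC hpair with rfl | rfl
  · rw [one_mul] at hcard
    have : I = H := eq_of_le_of_card_ge inf_le_left hcard.le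
    rw [← this]
    exact inf_le_right
  · exact (not_seventy D hqc he hKc hKC hNK hKy hyo hyN hPH hyH hcard).elim

end Data

/-- The data at the prime 23. -/
theorem exists_twentythree (h : Nat.card G = 244823040) [Fact (Nat.Prime 23)] :
    Nonempty (PData G 23 11 1) := by
  classical
  haveI : Fact (Nat.Prime 11) := ⟨by norm_num⟩
  haveI : Fact (Nat.Prime 3) := ⟨by norm_num⟩
  obtain ⟨e, c, hmem, ⟨D⟩⟩ := twentythree_params (G := G) h
  simp only [List.mem_cons, List.not_mem_nil, or_false, Prod.mk.injEq] at hmem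
  by_cases h1 : e = 11 ∧ c = 1
  · obtain ⟨rfl, rfl⟩ := h1
    exact ⟨D⟩
  exfalso
  obtain ⟨n', e', c', hn', hn1', hn2', he2', hep', hpc', ⟨D'⟩⟩ :=
    exists_pdata (noncomm h) 11 22256640 (by norm_num) (by rw [h]) (by norm_num)
  have hel' : e' ∈ [2, 5, 10] := by
    have := Nat.le_of_dvd (by norm_num) hep'
    interval_cases e' <;> simp_all
  have he : e = 11 ∨ e = 22 := by omega
  have hqc : ¬ 11 ∣ c := by omega
  have h23c : ¬ 23 ∣ c := by omega
  have hc1 : c ≠ 1 := by omega
  have h23c' : ¬ 23 ∣ c' := fun hd =>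
    hqc (CfsgLib.Char.MTwentyThreeOrder.cross D' D (by norm_num) hd)
  obtain ⟨r, hr⟩ : ∃ r, (c, r) ∈ regCases := by
    simp only [regCases, List.mem_cons, List.not_mem_nil, or_false, Prod.mk.injEq]
    rcases hmem with ⟨-, hc⟩ | ⟨-, hc⟩ | ⟨-, hc⟩ | ⟨-, hc⟩ | ⟨-, hc⟩ | ⟨-, hc⟩ | ⟨-, hc⟩
    · exact absurd hc hc1
    · exact ⟨3, by omega⟩
    · exact ⟨3, by omega⟩
    · exact ⟨9, by omega⟩
    · exact ⟨9, by omega⟩
    · exact ⟨27, by omega⟩
    · exact ⟨27, by omega⟩
  obtain ⟨K, R, y, hKc, hRc, hRK, hKC, hNK, hKy, hyo, hyN⟩ := exists_reg_centralizer D hr he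
  simp only [regCases, List.mem_cons, List.not_mem_nil, or_false, Prod.mk.injEq] at hr
  by_cases hbig : r = 27
  · -- the normalizer of a Sylow 11-subgroup has index 23
    have hc27 : c = 13824 ∨ c = 6912 := by omega
    have hCy : c ∣ c' := by
      have h2 := hKc ▸ card_dvd_of_le hKy
      rw [D'.cent_of_order hyo] at h2
      exact ((Nat.Prime.coprime_iff_not_dvd (by norm_num)).2 hqc).symm.dvd_of_dvd_mul_left h2
    have h6912 : 6912 ∣ c' := (show 6912 ∣ c by rcases hc27 with rfl | rfl <;> norm_num).trans hCy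
    obtain ⟨t, ht⟩ := h6912
    have hnd : n' ∣ 3220 := ⟨e' * t, by
      have h3 : n' * (e' * (6912 * t)) = 6912 * 3220 := by rw [← ht, hn']
      have h4 : 6912 * (n' * (e' * t)) = 6912 * 3220 := by rw [← h3]; ring
      exact (Nat.eq_of_mul_eq_mul_left (by norm_num) h4).symm⟩
    have hn23 : n' = 23 := (n_values n' (mem_divs (hnd.trans (by norm_num)))
      (Nat.mod_eq_zero_of_dvd hnd) hn1').resolve_left (by omega)
    refine hc1 (reg_eq_one_of_index D h23c (H := normalizer ((D'.P : Subgroup G) : Set G)) ?_)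
    have h5 := (normalizer ((D'.P : Subgroup G) : Set G)).card_mul_index
    rw [D'.norm_P, h] at h5
    have h6 : e' * (11 * c') * 23 = 244823040 := by
      rw [show (244823040 : ℕ) = 11 * 22256640 by norm_num, ← hn', hn23]; ring
    exact Nat.eq_of_mul_eq_mul_left (Nat.pos_of_ne_zero fun e0 => by rw [e0, zero_mul] at h6; norm_num at h6)
      (h5.trans h6.symm)
  -- a central element of a Sylow 3-subgroup in the regular part
  have hec : e * c ∣ 11 * 576 := by
    rcases hmem with ⟨rfl, rfl⟩ | ⟨rfl, rfl⟩ | ⟨rfl, rfl⟩ | ⟨rfl, rfl⟩ | ⟨rfl, rfl⟩ | ⟨rfl, rfl⟩ | ⟨rfl, rfl⟩ <;>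
      first | (norm_num; done) | (exfalso; omega)
  have hle : ∀ v ∈ R, orderOf v = 3 →
      centralizer ({v} : Set G) ≤ normalizer ((D.P : Subgroup G) : Set G) := fun v hv hvo =>
    cent_three_le D h D' hel' h23c' hqc he hec hKc hKC hNK hKy hyo hyN (hRK hv) hvo
  have hr39 : r = 3 ∨ r = 9 := by omega
  have hR3 : IsPGroup 3 R := by
    rcases hr39 with h2 | h2
    · exact IsPGroup.of_card (n := 1) (by rw [hRc, h2]; norm_num)
    · exact IsPGroup.of_card (n := 2) (by rw [hRc, h2]; norm_num)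
  obtain ⟨S, hRS⟩ := hR3.exists_le_sylow
  have hS : Nat.card (S : Subgroup G) = 27 := by
    rw [card_sylow_eq S (a := 3) (m := 9067520) (by rw [h]; norm_num) (by norm_num)]; norm_num
  haveI : Nontrivial (S : Subgroup G) := Finite.one_lt_card_iff_nontrivial.1 (by rw [hS]; norm_num)
  haveI := S.isPGroup'.center_nontrivial
  obtain ⟨z, hz⟩ := exists_prime_orderOf_dvd_card' (G := center (S : Subgroup G)) 3 (by
    obtain ⟨a, ha⟩ := IsPGroup.iff_card.1 (S.isPGroup'.to_subgroup (center (S : Subgroup G)))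
    have h2 : 1 < Nat.card (center (S : Subgroup G)) := Finite.one_lt_card
    rcases a with _ | a
    · rw [ha, pow_zero] at h2; omega
    · rw [ha, pow_succ]; exact dvd_mul_left 3 _)
  set w : G := ((z : (S : Subgroup G)) : G) with hw
  have hwo : orderOf w = 3 := by rw [hw, Subgroup.orderOf_coe, Subgroup.orderOf_coe, hz]
  have hwS : ∀ s ∈ (S : Subgroup G), s * w = w * s := fun s hs =>
    congrArg Subtype.val (mem_center_iff.1 z.2 ⟨s, hs⟩)
  obtain ⟨v, hv⟩ := exists_prime_orderOf_dvd_card' (G := R) 3 (by rcases hr39 with h2 | h2 <;> rw [hRc, h2] <;> norm_num)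
  have hwN : w ∈ normalizer ((D.P : Subgroup G) : Set G) :=
    hle v v.2 (by rw [Subgroup.orderOf_coe, hv]) (mem_centralizer_singleton_iff.2 (hwS v (hRS v.2)).symm)
  have hwR : w ∈ R := by
    have hle2 : R ⊔ zpowers w ≤ (S : Subgroup G) := sup_le hRS (zpowers_le.2 (z : (S : Subgroup G)).2)
    have hle3 : R ⊔ zpowers w ≤ normalizer ((D.P : Subgroup G) : Set G) :=
      sup_le ((hRK.trans hKC).trans (centralizer_le_normalizer _)) (zpowers_le.2 hwN)
    have h2 := card_dvd_of_le hle2
    have h3 := card_dvd_of_le hle3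
    have h4 := card_dvd_of_le (le_sup_left : R ≤ R ⊔ zpowers w)
    rw [hS] at h2
    rw [D.norm_P] at h3
    rw [hRc] at h4
    have h5 := Nat.le_of_dvd (by norm_num) h2
    have h6 : Nat.card ↥(R ⊔ zpowers w) = r := by
      have h3' : Nat.card ↥(R ⊔ zpowers w) ∣ 23 * (11 * 576) :=
        h3.trans (by rw [show e * (23 * c) = 23 * (e * c) by ring]; exact Nat.mul_dvd_mul_left _ hec)
      have h7 : Nat.card ↥(R ⊔ zpowers w) ∣ 9 := (Nat.dvd_gcd h2 h3').trans (by norm_num)
      rcases hr39 with h8 | h8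
      · have h10 : Nat.card ↥(R ⊔ zpowers w) ∣ 23 * (11 * 24) := by
          refine h3.trans ?_
          have hc3 : c = 24 ∨ c = 12 := by omega
          rw [show e * (23 * c) = 23 * (e * c) by ring]
          refine Nat.mul_dvd_mul_left _ ?_
          rcases hc3 with rfl | rfl <;> rcases he with rfl | rfl <;> first | (norm_num; done) | (exfalso; omega)
        have h9 := Nat.le_of_dvd (by norm_num) ((Nat.dvd_gcd h2 h10).trans (by norm_num : Nat.gcd 27 (23 * (11 * 24)) ∣ 3))
        have := Nat.le_of_dvd Nat.card_pos h4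
        omega
      · have h9 := Nat.le_of_dvd (by norm_num) h7
        have := Nat.le_of_dvd Nat.card_pos h4
        omega
    rw [eq_of_le_of_card_ge (le_sup_left : R ≤ R ⊔ zpowers w) (by rw [h6, hRc])]
    exact mem_sup_right (mem_zpowers w)
  have hSC : (S : Subgroup G) ≤ centralizer ({w} : Set G) := fun s hs =>
    mem_centralizer_singleton_iff.2 (hwS s hs)
  have h2 := card_dvd_of_le (hSC.trans (hle w hwR hwo))
  rw [hS, D.norm_P] at h2
  have h3 : 27 ∣ 23 * (11 * 576) :=
    h2.trans (by rw [show e * (23 * c) = 23 * (e * c) by ring]; exact Nat.mul_dvd_mul_left _ hec)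
  norm_num at h3

end CfsgLib.Char.MTwentyFourOrder
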