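import Cfsg.Agent.Lib.Char.MTwentyFourOrder.Order.Cube
import Cfsg.Agent.Lib.Char.MTwentyFourOrder.Order.Common

/-!
# The value of a common character at an element of order three
-/

set_option autoImplicit false
set_option linter.all false

open Cfsg Finset CfsgLib.Perm.PrimeBlock CfsgLib.Block CfsgLib.Char.MEleven.Order CfsgLib.Char.MTwelveOrder
open CfsgLib.Char.MTwentyTwoOrder (PData sylow_split)
open scoped ComplexConjugate

namespace CfsgLib.Char.MTwentyFourOrder

universe u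

variable {G : Type u} [Group G] [Fintype G]

theorem isIntegral_natCast' (n : ℕ) : IsIntegral ℤ ((n : ℕ) : ℂ) := by
  simpa using (isIntegral_algebraMap (R := ℤ) (A := ℂ) (x := (n : ℤ)))

theorem isIntegral_intCast' (n : ℤ) : IsIntegral ℤ ((n : ℤ) : ℂ) := by
  simpa using (isIntegral_algebraMap (R := ℤ) (A := ℂ) (x := n))

/-- The value at a prime power is congruent to the power of the value. -/
theorem integral_pow_prime (χ : IrrCharacter G) {p : ℕ} (hp : p.Prime) (g : G) :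
    IsIntegral ℤ ((((χ : G → ℂ) g) ^ p - (χ : G → ℂ) (g ^ p)) / (p : ℂ)) := by
  obtain ⟨f, n, ρ, hρ, rfl⟩ := χ
  obtain ⟨bs, μ, h1, -, h3⟩ := CfsgLib.Char.exists_eigen_data ρ g
  let R := integralClosure ℤ ℂ
  let μR : Fin (Module.finrank ℂ (Fin n → ℂ)) → R := fun i =>
    ⟨μ i, CfsgLib.Char.isIntegral_of_pow_eq_one (orderOf_pos g).ne' (h1 i)⟩
  obtain ⟨r, hr⟩ := CfsgLib.BSW.sum_pow_prime hp Finset.univ μR
  have h4 := h3 1
  have h5 := h3 p
  simp only [pow_one] at h4
  have hr' := congrArg (fun x : R => (x : ℂ)) hr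
  simp only [Subalgebra.coe_pow, Subalgebra.coe_add, Subalgebra.coe_mul, AddSubmonoidClass.coe_finset_sum,
    SubringClass.coe_natCast, μR] at hr'
  rw [← h4, ← h5] at hr'
  have hp0 : (p : ℂ) ≠ 0 := by exact_mod_cast hp.ne_zero
  have e : ((ρ.character g) ^ p - ρ.character (g ^ p)) / (p : ℂ) = (r : ℂ) := by
    rw [hr']; field_simp; ring
  show IsIntegral ℤ (((ρ.character g) ^ p - ρ.character (g ^ p)) / (p : ℂ))
  rw [e]
  exact r.2

section Congr

variable {p e c : ℕ} [hp : Fact p.Prime] (D : PData G p e c)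

/-- A signed value at a cube root of unity in the centralizer is congruent to one. -/
theorem congr_X [IsSimpleGroup G] (hp3 : p % 3 = 2) (hodd : p ≠ 2) {v : G}
    (hvC : v ∈ Subgroup.centralizer ((D.P : Subgroup G) : Set G)) (hv : v ^ 3 = 1) {χ : IrrCharacter G}
    (hχ : χ ∈ D.S.X) : IsIntegral ℤ (((χ : G → ℂ) v - (D.S.εX χ : ℂ)) / (p : ℂ)) := by
  obtain ⟨x, hx, hxo⟩ := D.exists_elt
  have hx1 : x ≠ 1 := fun e1 => hp.out.one_lt.ne' (by rw [← hxo, e1, orderOf_one])
  have hvr : ¬ p ∣ orderOf (v ^ 2) := fun hd => by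
    have h1 := Nat.le_of_dvd (by norm_num) ((hd.trans (orderOf_pow_dvd 2)).trans (orderOf_dvd_of_pow_eq_one hv))
    have := hp.out.two_le
    omega
  have hcm : Commute x (v ^ 2) := (Commute.pow_right (Subgroup.mem_centralizer_iff.1 hvC x hx) 2)
  have h1 := D.S.value_X χ hχ x hx hx1 _ (pow_mem hvC 2) hvr
  have h2 : (x * v ^ 2) ^ p = v := by
    rw [hcm.mul_pow, show x ^ p = 1 by rw [← hxo, pow_orderOf_eq_one], one_mul, ← pow_mul,
      show 2 * p = 3 * ((2 * p) / 3) + 1 by omega, pow_succ, pow_mul, hv, one_pow, one_mul]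
  have h3 := integral_pow_prime χ hp.out (x * v ^ 2)
  rw [h1, h2] at h3
  have h4 : (D.S.εX χ : ℂ) ^ p = (D.S.εX χ : ℂ) := by
    rcases D.S.sign_X χ hχ with hs | hs <;> rw [hs] <;> push_cast
    · exact one_pow p
    · exact (hp.out.odd_of_ne_two hodd).neg_one_pow
  rw [h4] at h3
  convert h3.neg using 1
  ring

/-- Values of block characters at a cube root of unity in the centralizer and their degrees. -/
theorem congr_block [IsSimpleGroup G] (hp3 : p % 3 = 2) (hodd : p ≠ 2) {v : G}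
    (hvC : v ∈ Subgroup.centralizer ((D.P : Subgroup G) : Set G)) (hv : v ^ 3 = 1) {χ : IrrCharacter G}
    (hχ : χ ∈ D.S.X ∨ χ ∈ D.S.Y) : IsIntegral ℤ (((χ : G → ℂ) v - (dg χ : ℂ)) / (p : ℂ)) := by
  classical
  have hp0 : (p : ℂ) ≠ 0 := by exact_mod_cast hp.out.ne_zero
  rcases hχ with hχ | hχ
  · obtain ⟨m, hm⟩ := Int.modEq_iff_dvd.1 (D.S.degree_X χ hχ)
    have e : ((χ : G → ℂ) v - (dg χ : ℂ)) / (p : ℂ) =
        ((χ : G → ℂ) v - (D.S.εX χ : ℂ)) / (p : ℂ) + (m : ℂ) := by
      have : (D.S.εX χ : ℂ) - (dg χ : ℂ) = (p : ℂ) * (m : ℂ) := by exact_mod_cast congrArg (Int.cast : ℤ → ℂ) hm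
      field_simp
      linear_combination this
    rw [e]
    exact (congr_X D hp3 hodd hvC hv hχ).add (isIntegral_intCast' m)
  · have hvr : ¬ p ∣ orderOf v := fun hd => by
      have h1 := Nat.le_of_dvd (by norm_num) (hd.trans (orderOf_dvd_of_pow_eq_one hv))
      have := hp.out.two_le
      omega
    have hrel := D.S.relation χ hχ v hvr
    obtain ⟨m, hm⟩ := Int.modEq_iff_dvd.1 D.S.congr_Y
    rw [← D.S.degree_Y χ hχ, show charDegree (χ : G → ℂ) = dg χ from rfl] at hm
    have hm' : (D.S.ε : ℂ) * (e : ℂ) - (dg χ : ℂ) = (p : ℂ) * (m : ℂ) := by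
      exact_mod_cast congrArg (Int.cast : ℤ → ℂ) hm
    have hε : (D.S.ε : ℂ) * (D.S.ε : ℂ) = 1 := by
      rcases D.S.sign with hs | hs <;> rw [hs] <;> norm_num
    have hs2 : ∑ ψ ∈ D.S.X, (D.S.εX ψ : ℂ) * (((ψ : G → ℂ) v - (D.S.εX ψ : ℂ))) =
        (∑ ψ ∈ D.S.X, (D.S.εX ψ : ℂ) * (ψ : G → ℂ) v) - (D.S.X.card : ℂ) := by
      have h1 : ∀ ψ ∈ D.S.X, (D.S.εX ψ : ℂ) * (D.S.εX ψ : ℂ) = 1 := fun ψ hψ => by
        rcases D.S.sign_X ψ hψ with hs | hs <;> rw [hs] <;> norm_num
      simp only [mul_sub, Finset.sum_sub_distrib]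
      rw [Finset.sum_congr rfl h1, Finset.sum_const, nsmul_one]
    have hcard : (D.S.X.card : ℂ) + 1 = (e : ℂ) := by exact_mod_cast congrArg (Nat.cast : ℕ → ℂ) D.S.card_X
    have key : ((χ : G → ℂ) v - (dg χ : ℂ)) / (p : ℂ) =
        (D.S.ε : ℂ) * (∑ ψ ∈ D.S.X, (D.S.εX ψ : ℂ) * (((ψ : G → ℂ) v - (D.S.εX ψ : ℂ)) / (p : ℂ))) +
          (m : ℂ) := by
      rw [Finset.sum_congr rfl (s₁ := D.S.X) fun ψ _ => (mul_div_assoc (D.S.εX ψ : ℂ)
        ((ψ : G → ℂ) v - (D.S.εX ψ : ℂ)) (p : ℂ)).symm, ← Finset.sum_div, hs2]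
      field_simp
      linear_combination (D.S.ε : ℂ) * hrel - ((χ : G → ℂ) v) * hε + hm' + (D.S.ε : ℂ) * hcard
    rw [key]
    exact ((isIntegral_intCast' _).mul (IsIntegral.sum _ fun ψ hψ =>
      (isIntegral_intCast' _).mul (congr_X D hp3 hodd hvC hv hψ))).add (isIntegral_intCast' m)

end Congr

/-- The square of an absolute value is less than the order of the centralizer. -/
theorem normSq_lt_cent {χ : IrrCharacter G} (hne : χ ≠ oneChar G) (v : G) :
    Complex.normSq ((χ : G → ℂ) v) < (Nat.card (Subgroup.centralizer ({v} : Set G)) : ℝ) := by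
  classical
  haveI := Fintype.ofFinite (IrrCharacter G)
  have e := CfsgLib.Char.sum_irr_mul_conj v v
  rw [if_pos (IsConj.refl v)] at e
  have hre := congrArg Complex.re e
  rw [Complex.natCast_re, Complex.re_sum] at hre
  have hsub := Finset.sum_le_sum_of_subset_of_nonneg (Finset.subset_univ {oneChar G, χ})
      (f := fun ψ : IrrCharacter G => ((ψ : G → ℂ) v * conj ((ψ : G → ℂ) v)).re)
      (fun ψ _ _ => by rw [Complex.mul_conj]; exact Complex.normSq_nonneg _)
  rw [hre, Finset.sum_pair hne.symm, show ((oneChar G : IrrCharacter G) : G → ℂ) v = 1 from rfl,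
    Complex.mul_conj ((χ : G → ℂ) v), map_one, mul_one, Complex.one_re, Complex.ofReal_re] at hsub
  linarith

/-- The degree divides the class size times the coordinates of the value. -/
theorem dvd_class (χ : IrrCharacter G) {v : G} {A B : ℤ}
    (hval : (χ : G → ℂ) v = (A : ℂ) + (B : ℂ) * cubeRoot) {M : ℕ}
    (hM : (Subgroup.centralizer ({v} : Set G)).index = M) :
    (dg χ : ℤ) ∣ (M : ℤ) * A ∧ (dg χ : ℤ) ∣ (M : ℤ) * B := by
  refine dvd_coords (dg_pos χ).ne' ?_
  have h := CfsgLib.Char.isIntegral_omega χ v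
  rw [CfsgLib.Char.omega, CfsgLib.Char.card_isConj, hM, val_one, hval] at h
  convert h using 1
  push_cast
  ring

/-- An element of order three commuting with elements of order 23 and 11 has few Sylow 23-subgroups. -/
theorem cent_three_cases [IsSimpleGroup G] {e c e' c' : ℕ} [Fact (Nat.Prime 23)] [Fact (Nat.Prime 11)]
    (h : Nat.card G = 244823040) (D : PData G 23 e c) (D' : PData G 11 e' c')
    (he : e ∈ [11, 22]) (he' : e' ∈ [2, 5, 10]) (hpc' : ¬ 23 ∣ c') (hqc : ¬ 11 ∣ c)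
    {v : G} (hv : orderOf v = 3) (hvC : v ∈ Subgroup.centralizer ((D.P : Subgroup G) : Set G))
    {y : G} (hy : orderOf y = 11) (hvy : Commute v y)
    {k j : ℕ} (hcard : Nat.card (Subgroup.centralizer ({v} : Set G)) = 253 * (k * j))
    (hkj : (k, j) ∈ centPairs) : j = 1 ∨ j = 70 := by
  classical
  obtain ⟨χ, hne, hχ, hχ', h896⟩ := exists_common D D' he he' hpc' hqc
  have hv3 : v ^ 3 = 1 := by rw [← hv, pow_orderOf_eq_one]
  obtain ⟨n₁, n₂, hle, hval⟩ := exists_coords χ hv3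
  -- congruence at the prime 23
  have c1 := congr_block D (by norm_num) (by norm_num) hvC hv3 hχ
  -- congruence at the prime 11, after moving the pair into the chosen Sylow subgroup
  have c2 : IsIntegral ℤ (((χ : G → ℂ) v - (dg χ : ℂ)) / ((11 : ℕ) : ℂ)) := by
    obtain ⟨Q, hQ⟩ := (IsPGroup.of_card (p := 11) (n := 1) (G := Subgroup.zpowers y)
      (by rw [Nat.card_zpowers, hy, pow_one])).exists_le_sylow
    obtain ⟨g, hg⟩ := MulAction.exists_smul_eq G Q D'.P
    have hy' : g * y * g⁻¹ ∈ (D'.P : Subgroup G) := by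
      rw [← hg, Sylow.coe_subgroup_smul]
      exact ⟨y, hQ (Subgroup.mem_zpowers y), rfl⟩
    have hy1 : g * y * g⁻¹ ≠ 1 := fun e1 => by
      rw [conj_eq_one_iff] at e1
      rw [e1, orderOf_one] at hy
      norm_num at hy
    have hvy' : Commute (g * v * g⁻¹) (g * y * g⁻¹) := by
      show (g * v * g⁻¹) * (g * y * g⁻¹) = (g * y * g⁻¹) * (g * v * g⁻¹)
      rw [show (g * v * g⁻¹) * (g * y * g⁻¹) = g * (v * y) * g⁻¹ by group, hvy.eq]
      group
    have hmem : g * v * g⁻¹ ∈ Subgroup.centralizer ((D'.P : Subgroup G) : Set G) :=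
      (CfsgLib.Block.Cyclic.mem_centralizer_iff_commute D'.card_P hy' hy1 _).2 hvy'
    have h3 := congr_block D' (by norm_num) (by norm_num) hmem
      (by rw [conj_pow, hv3, mul_one, mul_inv_cancel]) hχ'
    rwa [CfsgLib.Char.isClassFunction_irr χ v g] at h3
  have conv : ∀ n : ℕ, n ≠ 0 → IsIntegral ℤ (((χ : G → ℂ) v - (dg χ : ℂ)) / (n : ℂ)) →
      (n : ℤ) ∣ -((n₁ : ℤ) + 2 * n₂) ∧ (n : ℤ) ∣ (n₁ : ℤ) - n₂ := by
    intro n hn hi
    refine dvd_coords hn ?_
    rw [hval] at hi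
    convert hi using 1
    push_cast
    ring
  obtain ⟨a23, b23⟩ := conv 23 (by norm_num) c1
  obtain ⟨a11, b11⟩ := conv 11 (by norm_num) c2
  obtain ⟨i, hi⟩ : 253 ∣ n₁ := by
    have h1 : (23 : ℤ) ∣ n₁ := by push_cast at a23 b23; omega
    have h2 : (11 : ℤ) ∣ n₁ := by push_cast at a11 b11; omega
    omega
  obtain ⟨l, hl⟩ : 253 ∣ n₂ := by
    have h1 : (23 : ℤ) ∣ n₂ := by push_cast at a23 b23; omega
    have h2 : (11 : ℤ) ∣ n₂ := by push_cast at a11 b11; omega
    omega
  subst hi hl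
  -- the value is not the degree
  have hil : ¬ (i = 0 ∧ l = 0) := by
    rintro ⟨rfl, rfl⟩
    have h1 : v = 1 := CfsgLib.Perm.PrimeBlock.eq_one_of_value χ (fun e1 => hne (Subtype.ext e1)) (by
      rw [hval, val_one]; push_cast; ring)
    rw [h1, orderOf_one] at hv
    norm_num at hv
  -- the degree
  have hdeg : dg χ ∈ commonDegrees := by
    have h3 : 3 ≤ dg χ := degree_ge_three (noncomm h) χ (fun e => hne (Subtype.ext e)) (by rw [val_one])
    refine common_degrees _ (mem_divs (h ▸ CfsgLib.Char.degree_dvd_card χ (val_one χ))) h3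
      (h ▸ sq_degree_lt χ hne) ?_ ?_
    · simp only [List.mem_cons, List.not_mem_nil, or_false] at he ⊢
      rcases hχ with hm | hm
      · have h2 := Int.modEq_iff_dvd.1 (D.S.degree_X χ hm)
        rw [show charDegree (χ : G → ℂ) = dg χ from rfl] at h2
        rcases D.S.sign_X χ hm with hs | hs <;> rw [hs] at h2 <;> omega
      · have h2 := Int.modEq_iff_dvd.1 D.S.congr_Y
        rw [← D.S.degree_Y χ hm, show charDegree (χ : G → ℂ) = dg χ from rfl] at h2
        rcases D.S.sign with hs | hs <;> rw [hs] at h2 <;> rcases he with rfl | rfl <;> omega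
    · simp only [List.mem_cons, List.not_mem_nil, or_false] at he' ⊢
      rcases hχ' with hm | hm
      · have h2 := Int.modEq_iff_dvd.1 (D'.S.degree_X χ hm)
        rw [show charDegree (χ : G → ℂ) = dg χ from rfl] at h2
        rcases D'.S.sign_X χ hm with hs | hs <;> rw [hs] at h2 <;> omega
      · have h2 := Int.modEq_iff_dvd.1 D'.S.congr_Y
        rw [← D'.S.degree_Y χ hm, show charDegree (χ : G → ℂ) = dg χ from rfl] at h2
        rcases D'.S.sign with hs | hs <;> rw [hs] at h2 <;> rcases he' with rfl | rfl | rfl <;> omega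
  have ht := test_val _ hdeg h896
  simp only [valTest, List.all_eq_true, List.mem_range, Bool.or_eq_true, Bool.and_eq_true, beq_iff_eq,
    Bool.not_eq_true'] at ht
  rcases ht i (by omega) l (by omega) with h0 | h0
  · exact absurd h0 hil
  rcases h0 (k, j) hkj with (h1 | h1) | h1
  · exact Or.inl h1
  · exact Or.inr h1
  exfalso
  -- the value passes the test
  have hdvd : k * j ∣ 967680 := by
    have h0 := Subgroup.card_subgroup_dvd_card (Subgroup.centralizer ({v} : Set G))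
    rw [hcard, h, show (244823040 : ℕ) = 253 * 967680 by norm_num] at h0
    exact Nat.dvd_of_mul_dvd_mul_left (by norm_num) h0
  obtain ⟨M, hM⟩ := hdvd
  have hpos : 0 < k * j := Nat.pos_of_ne_zero fun e0 => by rw [e0, zero_mul] at hM; norm_num at hM
  have hidx : (Subgroup.centralizer ({v} : Set G)).index = 967680 / (k * j) := by
    have h0 := (Subgroup.centralizer ({v} : Set G)).card_mul_index
    rw [hcard, h, show (244823040 : ℕ) = 253 * (k * j) * M by rw [mul_assoc, ← hM]; norm_num] at h0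
    rw [Nat.eq_of_mul_eq_mul_left (by omega) h0, hM, Nat.mul_div_cancel_left _ hpos]
  obtain ⟨dA, dB⟩ := dvd_class χ hval hidx
  have hN := normSq_lt_cent hne v
  rw [hval, hcard, ← Complex.ofReal_intCast, ← Complex.ofReal_intCast, normSq_coords] at hN
  have hpA : (dg χ : ℤ) - ((253 * i : ℕ) + 2 * (253 * l : ℕ)) = (dg χ : ℤ) - 253 * ((i : ℤ) + 2 * (l : ℤ)) := by
    push_cast; ring
  have hpB : ((253 * i : ℕ) : ℤ) - (253 * l : ℕ) = 253 * ((i : ℤ) - (l : ℤ)) := by push_cast; ring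
  rw [hpA, hpB] at hN
  rw [hpA] at dA
  rw [hpB] at dB
  simp only [valOK, Bool.and_eq_false_iff, decide_eq_false_iff_not, beq_eq_false_iff_ne] at h1
  rcases h1 with (h1 | h1) | h1
  · exact h1 (by exact_mod_cast hN)
  · exact h1 (Int.emod_eq_zero_of_dvd dA)
  · exact h1 (Int.emod_eq_zero_of_dvd dB)

end CfsgLib.Char.MTwentyFourOrder
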